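import Cfsg.Agent.Lib.K41.Mono.Blocks

/-!
If only monomial elements of the overgroup send some axis to an axis, every element is monomial:
the products of a reflection pair with the diagonal involutions of small weight.
-/

set_option autoImplicit false

namespace Cfsg.Agent.K41.Mono

open Matrix

variable {F : Type*} [Field F] {n : ℕ}

/-- Elements sending some axis to an axis are monomial. -/
def AxisRigid (L : Subgroup ((Fin n → F) ≃ₗ[F] (Fin n → F))) : Prop :=
  ∀ g ∈ L, (∃ (i j : Fin n) (c : F), g (e i) = c • e j) → IsMono g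

/-- `ε` negates exactly the axes in `T`. -/
def IsFlip (T : Finset (Fin n)) (ε : ((Fin n → F) ≃ₗ[F] (Fin n → F))) : Prop :=
  ∀ i, ε (e i) = if i ∈ T then -e i else e i

theorem flip_coord {T : Finset (Fin n)} {ε : ((Fin n → F) ≃ₗ[F] (Fin n → F))} (hε : IsFlip T ε)
    (v : (Fin n → F)) (i : Fin n) : ε v i = if i ∈ T then -v i else v i := by
  conv_lhs => rw [← sum_e v, map_sum, Finset.sum_apply]
  rw [Finset.sum_eq_single i]
  · rw [map_smul, Pi.smul_apply, hε i]
    split_ifs <;> simp [e_same]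
  · intro j _ hj
    rw [map_smul, Pi.smul_apply, hε j]
    split_ifs <;> simp [e_ne (Ne.symm hj)]
  · simp

theorem flip_sq {T : Finset (Fin n)} {ε : ((Fin n → F) ≃ₗ[F] (Fin n → F))} (hε : IsFlip T ε) :
    ε * ε = 1 := by
  apply LinearEquiv.ext
  intro v
  ext i
  show ε (ε v) i = v i
  rw [flip_coord hε, flip_coord hε]
  split_ifs <;> simp

theorem flip_pair (h2 : (2 : F) ≠ 0) {a b : Fin n} (hab : a ≠ b) :
    IsFlip {a, b} (R (e a : (Fin n → F)) * R (e b)) := by
  intro i
  rw [pair_dev (e_dot_self a) (e_dot_self b) (e_dot_ne hab), e_dot, e_dot]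
  simp only [Finset.mem_insert, Finset.mem_singleton]
  by_cases hia : i = a
  · subst hia; rw [if_pos (Or.inl rfl), e_same, e_ne (Ne.symm hab)]; module
  by_cases hib : i = b
  · subst hib; rw [if_pos (Or.inr rfl), e_same, e_ne hab]; module
  rw [if_neg (by simp [hia, hib]), e_ne (Ne.symm hia), e_ne (Ne.symm hib)]; module

theorem flip_four (h2 : (2 : F) ≠ 0) {a b c d : Fin n} (hab : a ≠ b) (hac : a ≠ c) (had : a ≠ d)
    (hbc : b ≠ c) (hbd : b ≠ d) (hcd : c ≠ d) :
    IsFlip {a, b, c, d} (R (e a : (Fin n → F)) * R (e b) * (R (e c) * R (e d))) := by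
  intro i
  have h1 := flip_pair (F := F) h2 hab
  rw [LinearEquiv.mul_apply, flip_pair h2 hcd i]
  simp only [Finset.mem_insert, Finset.mem_singleton]
  by_cases hia : i = a
  · subst hia; rw [if_neg (by simp [hac, had]), h1]; simp
  by_cases hib : i = b
  · subst hib; rw [if_neg (by simp [hbc, hbd]), h1]; simp
  by_cases hic : i = c
  · subst hic; rw [if_pos (Or.inl rfl), map_neg, h1]; simp [Ne.symm hac, Ne.symm hbc]
  by_cases hid : i = d
  · subst hid; rw [if_pos (Or.inr rfl), map_neg, h1]; simp [Ne.symm had, Ne.symm hbd]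
  rw [if_neg (by simp [hic, hid]), h1]; simp [hia, hib, hic, hid]

namespace Ctx

variable {L : Subgroup ((Fin n → F) ≃ₗ[F] (Fin n → F))} (h : Ctx L)

include h

theorem neg_one_ne : (-1 : Fˣ) ≠ 1 := fun h0 => h.two (by
  have h1 := congrArg (fun u : Fˣ => (u : F)) h0
  simp only [Units.val_neg, Units.val_one] at h1
  linear_combination -h1)

/-- An element commuting with a small flip is monomial. -/
theorem mono_of_commute (hA : AxisRigid L) {T : Finset (Fin n)} (hT : T.card ≤ 4)
    (hT0 : T.Nonempty) {ε : ((Fin n → F) ≃ₗ[F] (Fin n → F))} (hε : IsFlip T ε)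
    {g : ((Fin n → F) ≃ₗ[F] (Fin n → F))} (hg : g ∈ L) (hc : ε * g = g * ε) : IsMono g := by
  have hn := h.dim
  have hgI := h.iso g hg
  set S := Finset.univ \ T with hS
  have hmemS : ∀ {k}, k ∈ S ↔ k ∉ T := by simp [hS]
  have hScard : 9 ≤ S.card := by
    have h1 := Finset.le_card_sdiff T (Finset.univ : Finset (Fin n))
    rw [Finset.card_univ, Fintype.card_fin] at h1
    rw [hS]
    omega
  have hsign : ∀ k i, (if i ∈ T then -g (e k) i else g (e k) i) =
      if k ∈ T then -g (e k) i else g (e k) i := fun k i => by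
    rw [← flip_coord hε, ← LinearEquiv.mul_apply, hc, LinearEquiv.mul_apply, hε k]
    split_ifs <;> simp
  have hoff : ∀ k i, ¬ (k ∈ T ↔ i ∈ T) → g (e k) i = 0 := fun k i hki => by
    have h0 := hsign k i
    by_cases hk : k ∈ T <;> by_cases hi : i ∈ T <;> simp only [hk, hi, if_true, if_false] at h0
    · exact absurd (iff_of_true hk hi) hki
    · exact (mul_eq_zero.mp (by linear_combination h0 : (2 : F) * g (e k) i = 0)).resolve_left h.two
    · exact (mul_eq_zero.mp (by linear_combination -h0 : (2 : F) * g (e k) i = 0)).resolve_left h.two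
    · exact absurd (iff_of_false hk hi) hki
  have hshape : ∀ k ∈ S, IsAxis (g (e k)) ∨ IsDiag (g (e k)) := fun k hk => by
    refine line_cases h.two hgI k (S.erase k) ?_ (Finset.notMem_erase k S) fun l hl => ?_
    · rw [Finset.card_erase_of_mem hk]; omega
    obtain ⟨t, ht⟩ := hT0
    have hl' := hmemS.mp (Finset.mem_of_mem_erase hl)
    have hk' := hmemS.mp hk
    refine hA _ ?_ ⟨t, t, 1, ?_⟩
    · rw [← R_mul_conj hgI]
      exact L.mul_mem (L.mul_mem hg (h.pair k l)) (L.inv_mem hg)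
    · have h1 : R (g (e l)) (e t) = e t :=
        R_of_ortho (by rw [dot_e]; exact hoff l t (by simp [hl', ht]))
      rw [LinearEquiv.mul_apply, h1,
        R_of_ortho (by rw [dot_e]; exact hoff k t (by simp [hk', ht])), one_smul]
  by_cases hd : ∃ k ∈ S, IsDiag (g (e k))
  · obtain ⟨k, hk, hkd⟩ := hd
    obtain ⟨q, hq, ⟨c, hqc⟩, hqm⟩ := h.exists_fix_not_mono hg S (by omega) hshape
      (fun k hk l hl i hi => by
        refine hoff l i fun hiff => hi (hoff k i ?_)
        have hk' := hmemS.mp hk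
        have hl' : l ∈ T := by_contra fun h' => hl (hmemS.mpr h')
        simp [hk', hiff.mp hl']) hk hkd
    exact absurd (hA q hq ⟨c, c, 1, by rw [one_smul, hqc]⟩) hqm
  · push Not at hd
    obtain ⟨k, hk⟩ : S.Nonempty := Finset.card_pos.mp (by omega)
    obtain ⟨j, c, hj⟩ := (hshape k hk).resolve_right (hd k hk)
    exact hA g hg ⟨k, j, c, hj⟩

/-- The central involution of a dihedral pair. -/
theorem exists_central [Finite F] {ε f : ((Fin n → F) ≃ₗ[F] (Fin n → F))} (hε : ε ∈ L) (hf : f ∈ L)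
    (hε2 : ε * ε = 1) (hf2 : f * f = 1) {v : (Fin n → F)} (hv : v ≠ 0) (hεv : ε v = -v)
    (hfv : f v = v) :
    ∃ z ∈ L, z ≠ 1 ∧ z * z = 1 ∧ ε * z = z * ε ∧ f * z = z * f ∧
      ∀ P : (Fin n → F) → Prop, P 0 → (∀ a b, P a → P b → P (a + b)) →
        (∀ u, P (ε u - u)) → (∀ u, P (f u - u)) → ∀ u, P (z u - u) := by
  have : Finite ((Fin n → F) ≃ₗ[F] (Fin n → F)) :=
    Finite.of_injective (fun g => (g : (Fin n → F) → (Fin n → F))) DFunLike.coe_injective
  set r := ε * f with hr
  set m := orderOf r with hm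
  have hm0 : 0 < m := orderOf_pos r
  have hrv : ∀ k : ℕ, (r ^ k) v = (-1 : F) ^ k • v := by
    intro k
    induction k with
    | zero => simp
    | succ k ih =>
      rw [pow_succ, LinearEquiv.mul_apply, hr, LinearEquiv.mul_apply, hfv, hεv, map_neg, ← hr, ih,
        pow_succ, mul_neg_one, neg_smul]
  have heven : Even m := by
    by_contra hodd
    have h1 := hrv m
    rw [hm, pow_orderOf_eq_one, ← hm, (Nat.not_even_iff_odd.mp hodd).neg_one_pow, neg_one_smul,
      LinearEquiv.coe_one, id_eq] at h1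
    refine hv (smul_eq_zero.mp ?_ |>.resolve_left h.two)
    rw [two_smul]
    exact eq_neg_iff_add_eq_zero.mp h1
  obtain ⟨q, hq⟩ := heven
  have hz2 : r ^ q * r ^ q = 1 := by rw [← pow_add, ← hq, hm, pow_orderOf_eq_one]
  have hinv : ε * r * ε⁻¹ = r⁻¹ := by
    rw [hr, _root_.mul_inv_rev, inv_eq_of_mul_eq_one_right hε2, inv_eq_of_mul_eq_one_right hf2,
      ← mul_assoc, hε2, one_mul]
  have hzinv : (r ^ q)⁻¹ = r ^ q := inv_eq_of_mul_eq_one_right hz2
  have hcε : ε * r ^ q = r ^ q * ε := by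
    calc ε * r ^ q = (ε * r * ε⁻¹) ^ q * ε := by rw [conj_pow, inv_mul_cancel_right]
      _ = r ^ q * ε := by rw [hinv, inv_pow, hzinv]
  have hfr : f = ε * r := by rw [hr, ← mul_assoc, hε2, one_mul]
  have hcf : f * r ^ q = r ^ q * f := by
    rw [hfr, mul_assoc, ← pow_succ', pow_succ, ← mul_assoc, hcε, mul_assoc]
  refine ⟨r ^ q, L.pow_mem (L.mul_mem hε hf) q, fun h1 => ?_, hz2, hcε, hcf, ?_⟩
  · have := orderOf_le_of_pow_eq_one (by omega) h1
    omega
  intro P h0 hadd hPε hPf u
  have step : ∀ k : ℕ, ∀ w, P ((r ^ k) w - w) := by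
    intro k
    induction k with
    | zero => intro w; simpa using h0
    | succ k ih =>
      intro w
      have e1 : (r ^ (k + 1)) w - w =
          (((r ^ k) (ε (f w)) - ε (f w)) + (ε (f w) - f w)) + (f w - w) := by
        rw [pow_succ, LinearEquiv.mul_apply, hr, LinearEquiv.mul_apply]
        abel
      rw [e1]
      exact hadd _ _ (hadd _ _ (ih _) (hPε _)) (hPf _)
  exact step q u

end Ctx

/-- The span of two vectors. -/
def InW (x y w : (Fin n → F)) : Prop := ∃ α β : F, w = α • x + β • y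

/-- Data of an offending reflection pair. -/
structure Bad (L : Subgroup ((Fin n → F) ≃ₗ[F] (Fin n → F))) (x y : (Fin n → F)) : Prop where
  ctx : Ctx L
  rigid : AxisRigid L
  x_one : x ⬝ᵥ x = 1
  y_one : y ⬝ᵥ y = 1
  ortho : x ⬝ᵥ y = 0
  mem : R x * R y ∈ L
  not_mono : ¬ IsMono (R x * R y)

namespace Bad

variable {L : Subgroup ((Fin n → F) ≃ₗ[F] (Fin n → F))} {x y : (Fin n → F)} (h : Bad L x y)

include h

theorem nz (c : Fin n) : x c ≠ 0 ∨ y c ≠ 0 := by
  by_contra hc
  push Not at hc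
  exact h.not_mono (h.rigid _ h.mem ⟨c, c, 1, by
    have h1 : R y (e c) = e c := R_of_ortho (by rw [dot_e]; exact hc.2)
    rw [LinearEquiv.mul_apply, h1, R_of_ortho (by rw [dot_e]; exact hc.1), one_smul]⟩)

theorem neg_of_inW {w : (Fin n → F)} (hw : InW x y w) : (R x * R y) w = -w := by
  obtain ⟨α, β, rfl⟩ := hw
  rw [pair_dev h.x_one h.y_one h.ortho]
  simp only [dotProduct_add, dotProduct_smul, h.x_one, h.y_one, h.ortho, dotProduct_comm y x,
    smul_eq_mul, mul_one, mul_zero, add_zero, zero_add]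
  module

theorem inW_of_neg {w : (Fin n → F)} (hw : (R x * R y) w = -w) : InW x y w := by
  rw [pair_dev h.x_one h.y_one h.ortho] at hw
  refine ⟨x ⬝ᵥ w, y ⬝ᵥ w, ?_⟩
  have h0 : (2 : F) • (w - ((x ⬝ᵥ w) • x + (y ⬝ᵥ w) • y)) = 0 := by
    linear_combination (norm := module) hw
  exact sub_eq_zero.mp ((smul_eq_zero.mp h0).resolve_left h.ctx.two)

theorem no_axis {c : Fin n} {s : F} (hs : s ≠ 0) : ¬ InW x y (s • e c) := fun hw => by
  refine h.not_mono (h.rigid _ h.mem ⟨c, c, -1, ?_⟩)
  have h0 := h.neg_of_inW hw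
  rw [map_smul, ← smul_neg] at h0
  rw [smul_right_injective (Fin n → F) hs h0, neg_one_smul]

theorem prop_of_zero {w w' : (Fin n → F)} (hw : InW x y w) (hw' : InW x y w') (hw0 : w ≠ 0)
    {c : Fin n} (hc : w c = 0) (hc' : w' c = 0) : ∃ s : F, w' = s • w := by
  obtain ⟨α, β, rfl⟩ := hw
  obtain ⟨α', β', rfl⟩ := hw'
  simp only [Pi.add_apply, Pi.smul_apply, smul_eq_mul] at hc hc'
  have hd : α * β' - α' * β = 0 := by
    rcases h.nz c with hx | hy
    · exact (mul_eq_zero.mp (by linear_combination β' * hc - β * hc' :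
        (α * β' - α' * β) * x c = 0)).resolve_right hx
    · exact (mul_eq_zero.mp (by linear_combination α * hc' - α' * hc :
        (α * β' - α' * β) * y c = 0)).resolve_right hy
  by_cases hα : α = 0
  · subst hα
    have hβ : β ≠ 0 := fun h0 => hw0 (by rw [h0]; simp)
    have hα' : α' = 0 := (mul_eq_zero.mp (by linear_combination -hd : α' * β = 0)).resolve_right hβ
    subst hα'
    exact ⟨β' / β, by simp [smul_smul, div_mul_cancel₀ _ hβ]⟩
  · refine ⟨α' / α, ?_⟩
    rw [smul_add, smul_smul, smul_smul, div_mul_cancel₀ _ hα]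
    congr 2
    field_simp
    linear_combination hd

/-- Two vectors of the pair's space with few support are proportional. -/
theorem prop_of_small {w w' : (Fin n → F)} (hw : InW x y w) (hw' : InW x y w') (hw0 : w ≠ 0)
    (S : Finset (Fin n)) (hS : S.card < n) (h1 : ∀ m ∉ S, w m = 0) (h2 : ∀ m ∉ S, w' m = 0) :
    ∃ s : F, w' = s • w := by
  obtain ⟨c, -, hc⟩ := Finset.exists_mem_notMem_of_card_lt_card (s := S)
    (t := Finset.univ) (by rwa [Finset.card_univ, Fintype.card_fin])
  exact h.prop_of_zero hw hw' hw0 (h1 c hc) (h2 c hc)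

/-- Analysis of the central involution attached to a flip. -/
theorem central [Finite F] {T : Finset (Fin n)} (hT : T.card ≤ 4)
    {ε : ((Fin n → F) ≃ₗ[F] (Fin n → F))} (hεL : ε ∈ L) (hε : IsFlip T ε)
    {v : (Fin n → F)} (hv : v ≠ 0) (hvT : ∀ i ∉ T, v i = 0) (hvx : x ⬝ᵥ v = 0)
    (hvy : y ⬝ᵥ v = 0) :
    ∃ z ∈ L, z ≠ 1 ∧ (R x * R y) * z = z * (R x * R y) ∧ IsMono z ∧ Iso z ∧ z * z = 1 ∧
      (∀ (i j : Fin n) (c : F), z (e i) = c • e j → (i ∈ T ↔ j ∈ T)) ∧
      (∀ w, InW x y w → InW x y (z w)) ∧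
      (∀ i ∉ T, z (e i) ≠ e i → ∃ (j : Fin n) (c : F) (w : (Fin n → F)),
        z (e i) = c • e j ∧ InW x y w ∧ w i ≠ 0 ∧
        (∀ m ∉ T, m ≠ i → m ≠ j → w m = 0) ∧ (j = i ∨ w i * w i = w j * w j)) := by
  classical
  have hC := h.ctx
  have hf2 := pair_sq h.x_one h.y_one h.ortho
  have hεv : ε v = -v := by
    ext i
    rw [flip_coord hε, Pi.neg_apply]
    split_ifs with hi
    · rfl
    · rw [hvT i hi, neg_zero]
  have hfv : (R x * R y) v = v := by
    rw [pair_dev h.x_one h.y_one h.ortho, hvx, hvy]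
    module
  obtain ⟨z, hz, hz1, hz2, hcε, hcf, hP⟩ := hC.exists_central hεL h.mem (flip_sq hε) hf2 hv hεv hfv
  have hT0 : T.Nonempty := by
    by_contra hne
    exact hv (funext fun i => hvT i (by simp [Finset.not_nonempty_iff_eq_empty.mp hne]))
  have hzI := hC.iso z hz
  have hzm := hC.mono_of_commute h.rigid hT hT0 hε hz hcε
  have hTpres : ∀ (i j : Fin n) (c : F), z (e i) = c • e j → (i ∈ T ↔ j ∈ T) := by
    intro i j c hij
    have h0 : ε (z (e i)) = z (ε (e i)) := by
      rw [← LinearEquiv.mul_apply, hcε, LinearEquiv.mul_apply]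
    rw [hε i, hij, map_smul, hε j] at h0
    have hc0 : c ≠ 0 := fun hc => by
      have := mono_pair hzI hij
      rw [hc, zero_mul] at this; exact zero_ne_one this
    by_cases hi : i ∈ T <;> by_cases hj : j ∈ T <;>
      simp only [hi, hj, if_true, if_false, map_neg, hij] at h0 <;>
      simp only [hi, hj, iff_self] <;>
      have h1 := congrFun h0 j <;>
      simp only [Pi.smul_apply, Pi.neg_apply, e_same, smul_eq_mul, mul_one, mul_neg] at h1 <;>
      exfalso
    · exact mul_ne_zero hC.two hc0 (by linear_combination h1)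
    · exact mul_ne_zero hC.two hc0 (by linear_combination -h1)
  refine ⟨z, hz, hz1, hcf, hzm, hzI, hz2, hTpres, fun w hw => h.inW_of_neg ?_, fun i hi hmov => ?_⟩
  · rw [← LinearEquiv.mul_apply, hcf, LinearEquiv.mul_apply, h.neg_of_inW hw, map_neg]
  obtain ⟨j, c, hij⟩ := hzm i
  have hj : j ∉ T := fun hj => hi ((hTpres i j c hij).mpr hj)
  obtain ⟨w, hw, hwd⟩ := hP (fun u => ∃ w, InW x y w ∧ ∀ m ∉ T, u m = w m)
    ⟨0, ⟨0, 0, by simp⟩, fun _ _ => rfl⟩
    (by
      rintro a b ⟨wa, ⟨α, β, rfl⟩, ha⟩ ⟨wb, ⟨α', β', rfl⟩, hb⟩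
      refine ⟨(α + α') • x + (β + β') • y, ⟨_, _, rfl⟩, fun m hm => ?_⟩
      rw [Pi.add_apply, ha m hm, hb m hm]
      simp only [Pi.add_apply, Pi.smul_apply, smul_eq_mul]
      ring)
    (fun u => ⟨0, ⟨0, 0, by simp⟩, fun m hm => by
      rw [Pi.sub_apply, flip_coord hε, if_neg hm, sub_self, Pi.zero_apply]⟩)
    (fun u => ⟨_, ⟨-(2 * (x ⬝ᵥ u)), -(2 * (y ⬝ᵥ u)), rfl⟩, fun m _ => by
      rw [pair_dev h.x_one h.y_one h.ortho]
      simp only [Pi.sub_apply, Pi.add_apply, Pi.smul_apply, smul_eq_mul]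
      ring⟩)
    (e i)
  refine ⟨j, c, w, hij, hw, ?_, fun m hm hmi hmj => ?_, ?_⟩
  · rw [← hwd i hi, Pi.sub_apply, hij, Pi.smul_apply, e_same, smul_eq_mul]
    by_cases hji : j = i
    · subst hji
      rw [e_same, mul_one, sub_ne_zero]
      exact fun hc => hmov (by rw [hij, hc, one_smul])
    · rw [e_ne (Ne.symm hji), mul_zero, zero_sub]
      exact neg_ne_zero.mpr one_ne_zero
  · rw [← hwd m hm, Pi.sub_apply, hij, Pi.smul_apply, e_ne hmj, e_ne hmi, smul_zero, sub_zero]
  · by_cases hji : j = i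
    · exact Or.inl hji
    refine Or.inr ?_
    rw [← hwd i hi, ← hwd j hj]
    simp only [Pi.sub_apply, hij, Pi.smul_apply, e_same, e_ne hji, e_ne (Ne.symm hji), smul_eq_mul,
      mul_zero, mul_one, zero_sub, sub_zero]
    rw [mono_pair hzI hij]; ring

omit h in
/-- A vector on two coordinates orthogonal to the pair, when the minor vanishes. -/
theorem pair_vec (h : Bad L x y) {c d : Fin n} (hcd : c ≠ d) (hΔ : x c * y d = x d * y c) :
    ∃ v : (Fin n → F), v ≠ 0 ∧ (∀ i, i ∉ ({c, d} : Finset (Fin n)) → v i = 0) ∧ x ⬝ᵥ v = 0 ∧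
      y ⬝ᵥ v = 0 := by
  have mk : ∀ p q : F, (p ≠ 0 ∨ q ≠ 0) → x c * p + x d * q = 0 → y c * p + y d * q = 0 →
      ∃ v : (Fin n → F), v ≠ 0 ∧ (∀ i, i ∉ ({c, d} : Finset (Fin n)) → v i = 0) ∧ x ⬝ᵥ v = 0 ∧
      y ⬝ᵥ v = 0 := fun p q hpq h1 h3 => by
    refine ⟨p • e c + q • e d, fun h0 => ?_, fun i hi => ?_, ?_, ?_⟩
    · have e1 := congrFun h0 c
      have e2 := congrFun h0 d
      simp [e_same, e_ne hcd, e_ne (Ne.symm hcd)] at e1 e2
      exact hpq.elim (fun h' => h' e1) (fun h' => h' e2)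
    · simp only [Finset.mem_insert, Finset.mem_singleton, not_or] at hi
      simp [e_ne hi.1, e_ne hi.2]
    · rw [dotProduct_add, dotProduct_smul, dotProduct_smul, dot_e, dot_e, smul_eq_mul, smul_eq_mul]
      linear_combination h1
    · rw [dotProduct_add, dotProduct_smul, dotProduct_smul, dot_e, dot_e, smul_eq_mul, smul_eq_mul]
      linear_combination h3
  by_cases hx : x c = 0 ∧ x d = 0
  · exact mk (y d) (-y c) ((h.nz d).elim (fun h' => absurd hx.2 h') Or.inl) (by
      rw [hx.1, hx.2]; ring) (by ring)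
  · exact mk (x d) (-x c) (by
      by_cases hd : x d = 0
      · exact Or.inr (neg_ne_zero.mpr fun hc => hx ⟨hc, hd⟩)
      · exact Or.inl hd) (by ring) (by linear_combination -hΔ)

/-- The minor vanishes at two zeros of a vector of the pair's space. -/
theorem minor_of_zeros {w : (Fin n → F)} (hw : InW x y w) (hw0 : w ≠ 0) {c d : Fin n}
    (hc : w c = 0) (hd : w d = 0) : x c * y d = x d * y c := by
  obtain ⟨α, β, rfl⟩ := hw
  simp only [Pi.add_apply, Pi.smul_apply, smul_eq_mul] at hc hd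
  by_cases hα : α = 0
  · have hβ : β ≠ 0 := fun h0 => hw0 (by rw [h0, hα]; simp)
    subst hα
    rw [zero_mul, zero_add] at hc hd
    rw [(mul_eq_zero.mp hc).resolve_left hβ, (mul_eq_zero.mp hd).resolve_left hβ]; ring
  · apply mul_left_cancel₀ hα
    linear_combination y d * hc - y c * hd

/-- A vector on a four-set orthogonal to the pair. -/
theorem four_vec (T : Finset (Fin n)) (hT : T.card = 4) :
    ∃ v : (Fin n → F), v ≠ 0 ∧ (∀ i ∉ T, v i = 0) ∧ x ⬝ᵥ v = 0 ∧ y ⬝ᵥ v = 0 := by
  classical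
  let A : (T → F) →ₗ[F] (Fin n → F) :=
    ∑ t : T, (LinearMap.proj t).smulRight (e (t : Fin n))
  let φ : (T → F) →ₗ[F] F × F :=
    { toFun := fun p => (x ⬝ᵥ A p, y ⬝ᵥ A p)
      map_add' := fun p q => by simp [dotProduct_add]
      map_smul' := fun a p => by simp [dotProduct_smul] }
  obtain ⟨p, hp, hp0⟩ := Submodule.exists_mem_ne_zero_of_ne_bot
    (LinearMap.ker_ne_bot_of_finrank_lt (f := φ) (by simp [hT]))
  have hA : ∀ i, A p i = if hi : i ∈ T then p ⟨i, hi⟩ else 0 := fun i => by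
    simp only [A, LinearMap.sum_apply, Finset.sum_apply, LinearMap.smulRight_apply,
      LinearMap.proj_apply, Pi.smul_apply, smul_eq_mul]
    split_ifs with hi
    · rw [Finset.sum_eq_single ⟨i, hi⟩ (fun t _ ht => by
        rw [e_ne (fun h' => ht (Subtype.ext h'.symm)), mul_zero]) (by simp), e_same, mul_one]
    · exact Finset.sum_eq_zero fun t _ => by rw [e_ne (fun h' => hi (by rw [h']; exact t.2)), mul_zero]
  have h0 : φ p = 0 := hp
  refine ⟨A p, fun h1 => hp0 (funext fun t => ?_), fun i hi => by rw [hA, dif_neg hi],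
    congrArg Prod.fst h0, congrArg Prod.snd h0⟩
  have := congrFun h1 (t : Fin n)
  rwa [hA, dif_pos t.2] at this

/-- Some minor vanishes. -/
theorem exists_minor [Finite F] : ∃ c d : Fin n, c ≠ d ∧ x c * y d = x d * y c := by
  classical
  have hn := h.ctx.dim
  have h2 := h.ctx.two
  obtain ⟨T, hT, a, b, c, d, hab, hac, had, hbc, hbd, hcd, hTeq⟩ :
      ∃ T : Finset (Fin n), T.card = 4 ∧ ∃ a b c d, a ≠ b ∧ a ≠ c ∧ a ≠ d ∧ b ≠ c ∧ b ≠ d ∧ c ≠ d ∧
        T = {a, b, c, d} := by
    refine ⟨{⟨0, by omega⟩, ⟨1, by omega⟩, ⟨2, by omega⟩, ⟨3, by omega⟩}, ?_,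
      ⟨0, by omega⟩, ⟨1, by omega⟩, ⟨2, by omega⟩, ⟨3, by omega⟩,
      by simp, by simp, by simp, by simp, by simp, by simp, rfl⟩
    simp
  subst hTeq
  obtain ⟨v, hv, hvT, hvx, hvy⟩ := h.four_vec _ hT
  obtain ⟨z, hz, hz1, -, hzm, hzI, hz2, hTp, hzW, horb⟩ := h.central hT.le
    (L.mul_mem (h.ctx.pair a b) (h.ctx.pair c d)) (flip_four h2 hab hac had hbc hbd hcd) hv hvT hvx
    hvy
  set T : Finset (Fin n) := {a, b, c, d} with hTdef
  have fin : ∀ w, InW x y w → w ≠ 0 → ∀ S : Finset (Fin n), S.card ≤ 6 → (∀ m ∉ S, w m = 0) →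
      ∃ c d : Fin n, c ≠ d ∧ x c * y d = x d * y c := by
    intro w hw hw0 S hS hwS
    obtain ⟨p, -, hp⟩ := Finset.exists_mem_notMem_of_card_lt_card (s := S) (t := Finset.univ)
      (by rw [Finset.card_univ, Fintype.card_fin]; omega)
    obtain ⟨q, -, hq⟩ := Finset.exists_mem_notMem_of_card_lt_card (s := insert p S)
      (t := Finset.univ) (lt_of_le_of_lt (Finset.card_insert_le _ _)
        (by rw [Finset.card_univ, Fintype.card_fin]; omega))
    simp only [Finset.mem_insert, not_or] at hq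
    exact ⟨p, q, Ne.symm hq.1, h.minor_of_zeros hw hw0 (hwS p hp) (hwS q hq.2)⟩
  by_cases hout : ∃ i ∉ T, z (e i) ≠ e i
  · obtain ⟨i, hi, hmov⟩ := hout
    obtain ⟨j, -, w, -, hw, hwi, hwS, -⟩ := horb i hi hmov
    refine fin w hw (fun h0 => hwi (by rw [h0]; rfl)) (T ∪ {i, j})
      ((Finset.card_union_le _ _).trans (by rw [hT]; exact Nat.add_le_add_left Finset.card_le_two 4))
      fun m hm => ?_
    simp only [Finset.mem_union, Finset.mem_insert, Finset.mem_singleton, not_or] at hm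
    exact hwS m hm.1 hm.2.1 hm.2.2
  push Not at hout
  obtain ⟨t, htm⟩ : ∃ t, z (e t) ≠ e t := by
    by_contra hc
    push Not at hc
    exact hz1 (ext_e hc)
  have htT : t ∈ T := by_contra fun hh => htm (hout t hh)
  obtain ⟨j, s, htj⟩ := hzm t
  have hzcoord : ∀ u : (Fin n → F), z u ⬝ᵥ e t = u ⬝ᵥ z (e t) := fun u => by
    conv_lhs => rw [show (e t : (Fin n → F)) = z (z (e t)) by rw [← LinearEquiv.mul_apply, hz2]; rfl]
    rw [hzI]
  by_cases hu : x ⬝ᵥ z (e t) = x t ∧ y ⬝ᵥ z (e t) = y t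
  · rw [htj, dotProduct_smul, dotProduct_smul, dot_e, dot_e, smul_eq_mul, smul_eq_mul] at hu
    by_cases hjt : j = t
    · exfalso
      rw [hjt] at hu htj
      have hs : s - 1 ≠ 0 := sub_ne_zero.mpr fun hs => htm (by rw [htj, hs, one_smul])
      rcases h.nz t with hx | hy
      · exact hx ((mul_eq_zero.mp (by linear_combination hu.1 : (s - 1) * x t = 0)).resolve_left hs)
      · exact hy ((mul_eq_zero.mp (by linear_combination hu.2 : (s - 1) * y t = 0)).resolve_left hs)
    · exact ⟨t, j, Ne.symm hjt, by rw [← hu.1, ← hu.2]; ring⟩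
  obtain ⟨u, huW, hu'⟩ : ∃ u, InW x y u ∧ u ⬝ᵥ z (e t) ≠ u t := by
    by_cases hx : x ⬝ᵥ z (e t) = x t
    · exact ⟨y, ⟨0, 1, by simp⟩, fun hy => hu ⟨hx, hy⟩⟩
    · exact ⟨x, ⟨1, 0, by simp⟩, hx⟩
  refine fin (z u - u) ?_ (fun h0 => hu' ?_) T (by omega) fun m hm => ?_
  · obtain ⟨α, β, h1⟩ := hzW u huW
    obtain ⟨α', β', h3⟩ := huW
    exact ⟨α - α', β - β', by rw [h1, h3]; module⟩
  · rw [← hzcoord, sub_eq_zero.mp h0, dot_e]
  · rw [Pi.sub_apply, sub_eq_zero, ← dot_e m (z u), ← hout m hm, hzI, dot_e]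

/-- A vanishing minor gives a vector of small support. -/
theorem exists_orbit [Finite F] {c d : Fin n} (hcd : c ≠ d) (hΔ : x c * y d = x d * y c) :
    ∃ (i j : Fin n) (w : (Fin n → F)), InW x y w ∧ w i ≠ 0 ∧
      (∀ m, m ≠ c → m ≠ d → m ≠ i → m ≠ j → w m = 0) ∧ (j = i ∨ w i * w i = w j * w j) ∧
      i ≠ c ∧ i ≠ d := by
  classical
  have h2 := h.ctx.two
  have hε := flip_pair (F := F) h2 hcd
  obtain ⟨v, hv, hvT, hvx, hvy⟩ := h.pair_vec hcd hΔ
  obtain ⟨z, hz, hz1, hcf, hzm, hzI, hz2, hTp, hzW, horb⟩ := h.central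
    (le_trans Finset.card_le_two (by norm_num)) (h.ctx.pair c d) hε hv hvT hvx hvy
  by_cases hout : ∃ i ∉ ({c, d} : Finset (Fin n)), z (e i) ≠ e i
  · obtain ⟨i, hi, hmov⟩ := hout
    obtain ⟨j, -, w, -, hw, hwi, hwS, hsq⟩ := horb i hi hmov
    simp only [Finset.mem_insert, Finset.mem_singleton, not_or] at hi
    exact ⟨i, j, w, hw, hwi, fun m h1 h3 h4 h5 => hwS m (by simp [h1, h3]) h4 h5, hsq, hi.1, hi.2⟩
  exfalso
  push Not at hout
  have hdet := h.ctx.det z hz
  have hfix : ∀ i, i ≠ c → i ≠ d → z (e i) = e i := fun i h1 h3 => hout i (by simp [h1, h3])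
  obtain ⟨jc, sc, hjc⟩ := hzm c
  obtain ⟨jd, sd, hjd⟩ := hzm d
  have hjcT := (hTp c jc sc hjc).mp (by simp)
  simp only [Finset.mem_insert, Finset.mem_singleton] at hjcT
  rcases hjcT with rfl | rfl
  · -- `z` is diagonal on the pair
    have hjdd : jd = d := by
      have hjdT := (hTp d jd sd hjd).mp (by simp)
      simp only [Finset.mem_insert, Finset.mem_singleton] at hjdT
      rcases hjdT with rfl | rfl
      · exact absurd (mono_inj hzI hjc hjd) hcd
      · rfl
    subst hjdd
    rcases mul_self_eq_one_iff.mp (mono_pair hzI hjc) with hc1 | hc1 <;>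
      rcases mul_self_eq_one_iff.mp (mono_pair hzI hjd) with hd1 | hd1 <;> subst hc1 hd1
    · refine hz1 (ext_e fun i => ?_)
      by_cases h1 : i = jc
      · subst h1; rw [hjc, one_smul]; rfl
      by_cases h3 : i = jd
      · subst h3; rw [hjd, one_smul]; rfl
      exact hfix i h1 h3
    · have : z = R (e jd) := ext_e fun i => by
        by_cases h3 : i = jd
        · subst h3; rw [hjd, R_self (by rw [e_dot_self]; exact one_ne_zero), neg_one_smul]
        rw [R_of_ortho (e_dot_ne (Ne.symm h3))]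
        by_cases h1 : i = jc
        · subst h1; rw [hjc, one_smul]
        exact hfix i h1 h3
      rw [this, det_R (by rw [e_dot_self]; exact one_ne_zero)] at hdet
      exact h.ctx.neg_one_ne hdet
    · have : z = R (e jc) := ext_e fun i => by
        by_cases h1 : i = jc
        · subst h1; rw [hjc, R_self (by rw [e_dot_self]; exact one_ne_zero), neg_one_smul]
        rw [R_of_ortho (e_dot_ne (Ne.symm h1))]
        by_cases h3 : i = jd
        · subst h3; rw [hjd, one_smul]
        exact hfix i h1 h3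
      rw [this, det_R (by rw [e_dot_self]; exact one_ne_zero)] at hdet
      exact h.ctx.neg_one_ne hdet
    · have hze : z = R (e jc) * R (e jd) := ext_e fun i => by
        rw [hε i]
        simp only [Finset.mem_insert, Finset.mem_singleton]
        by_cases h1 : i = jc
        · subst h1; rw [hjc, if_pos (Or.inl rfl), neg_one_smul]
        by_cases h3 : i = jd
        · subst h3; rw [hjd, if_pos (Or.inr rfl), neg_one_smul]
        rw [hfix i h1 h3, if_neg (by simp [h1, h3])]
      refine h.not_mono (h.ctx.mono_of_commute h.rigid (le_trans Finset.card_le_two (by norm_num))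
        ⟨jc, by simp⟩ hε h.mem ?_)
      rw [← hze]
      exact hcf.symm
  · -- `z` exchanges the two axes
    have hsc := mono_pair hzI hjc
    have hjd' := mono_back hzI hz2 hjc
    have : z = R (e c - sc • e jc) := ext_e fun i => by
      have hu : (e c - sc • e jc : (Fin n → F)) ⬝ᵥ (e c - sc • e jc) = 2 := by
        simp only [sub_dotProduct, dotProduct_sub, smul_dotProduct, dotProduct_smul, e_dot_self,
          e_dot_ne hcd, e_dot_ne (Ne.symm hcd), smul_eq_mul, mul_zero, mul_one, sub_zero, zero_sub]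
        linear_combination hsc
      rw [R_apply, hu, sub_dotProduct, smul_dotProduct, e_dot, e_dot, smul_eq_mul]
      by_cases h1 : i = c
      · subst h1; rw [hjc, e_same, e_ne (Ne.symm hcd), mul_zero, sub_zero, mul_one, div_self h2,
          one_smul, sub_sub_cancel]
      by_cases h3 : i = jc
      · subst h3
        rw [hjd', e_same, e_ne hcd, mul_one, zero_sub, mul_neg, neg_div, mul_div_cancel_left₀ _ h2,
          neg_smul, sub_neg_eq_add, smul_sub, smul_smul, hsc, one_smul]
        abel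
      rw [hfix i h1 h3, e_ne (Ne.symm h1), e_ne (Ne.symm h3)]
      simp
    rw [this, det_R] at hdet
    · exact h.ctx.neg_one_ne hdet
    · intro h0
      simp only [sub_dotProduct, dotProduct_sub, smul_dotProduct, dotProduct_smul, e_dot_self,
        e_dot_ne hcd, e_dot_ne (Ne.symm hcd), smul_eq_mul, mul_zero, mul_one, sub_zero,
        zero_sub] at h0
      exact h2 (by linear_combination h0 - hsc)

/-- The pair's space contains a vector on two coordinates with equal squares. -/
theorem exists_root [Finite F] : ∃ (a b : Fin n) (w : (Fin n → F)), a ≠ b ∧ InW x y w ∧ w a ≠ 0 ∧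
    w a * w a = w b * w b ∧ ∀ m, m ≠ a → m ≠ b → w m = 0 := by
  classical
  have hn := h.ctx.dim
  obtain ⟨c, d, hcd, hΔ⟩ := h.exists_minor
  obtain ⟨i, j, w₁, hw₁, hwi, hz₁, -, -, -⟩ := h.exists_orbit hcd hΔ
  have hw₁0 : w₁ ≠ 0 := fun h0 => hwi (by rw [h0]; rfl)
  set S : Finset (Fin n) := {c, d, i, j}
  obtain ⟨p, -, hp⟩ := Finset.exists_mem_notMem_of_card_lt_card (s := S) (t := Finset.univ)
    (lt_of_le_of_lt Finset.card_le_four (by rw [Finset.card_univ, Fintype.card_fin]; omega))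
  obtain ⟨q, -, hq⟩ := Finset.exists_mem_notMem_of_card_lt_card (s := insert p S)
    (t := Finset.univ) (lt_of_le_of_lt ((Finset.card_insert_le _ _).trans
      (Nat.add_le_add_right Finset.card_le_four 1))
      (by rw [Finset.card_univ, Fintype.card_fin]; omega))
  simp only [S, Finset.mem_insert, Finset.mem_singleton, not_or] at hp hq
  have hp0 : w₁ p = 0 := hz₁ p hp.1 hp.2.1 hp.2.2.1 hp.2.2.2
  have hq0 : w₁ q = 0 := hz₁ q hq.2.1 hq.2.2.1 hq.2.2.2.1 hq.2.2.2.2
  obtain ⟨i', j', w, hw, hwi', hz, hsq, hip, hiq⟩ :=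
    h.exists_orbit (Ne.symm hq.1) (h.minor_of_zeros hw₁ hw₁0 hp0 hq0)
  obtain ⟨s, hs⟩ := h.prop_of_small hw₁ hw hw₁0 (S ∪ {p, q, i', j'})
    (lt_of_le_of_lt ((Finset.card_union_le _ _).trans
      (Nat.add_le_add Finset.card_le_four Finset.card_le_four)) (by omega))
    (fun m hm => by
      simp only [S, Finset.mem_union, Finset.mem_insert, Finset.mem_singleton, not_or] at hm
      exact hz₁ m hm.1.1 hm.1.2.1 hm.1.2.2.1 hm.1.2.2.2)
    (fun m hm => by
      simp only [S, Finset.mem_union, Finset.mem_insert, Finset.mem_singleton, not_or] at hm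
      exact hz m hm.2.1 hm.2.2.1 hm.2.2.2.1 hm.2.2.2.2)
  have hzero : ∀ m, m ≠ i' → m ≠ j' → w m = 0 := fun m h1 h3 => by
    by_cases hmp : m = p
    · rw [hmp, hs, Pi.smul_apply, hp0, smul_zero]
    by_cases hmq : m = q
    · rw [hmq, hs, Pi.smul_apply, hq0, smul_zero]
    exact hz m hmp hmq h1 h3
  rcases hsq with rfl | hsq
  · refine absurd ?_ (h.no_axis (c := j') hwi')
    have : w = w j' • e j' := funext fun m => by
      by_cases hm : m = j'
      · rw [hm, Pi.smul_apply, e_same, smul_eq_mul, mul_one]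
      · rw [hzero m hm hm, Pi.smul_apply, e_ne hm, smul_zero]
    exact this ▸ hw
  by_cases hij : i' = j'
  · refine absurd ?_ (h.no_axis (c := i') hwi')
    have : w = w i' • e i' := funext fun m => by
      by_cases hm : m = i'
      · rw [hm, Pi.smul_apply, e_same, smul_eq_mul, mul_one]
      · rw [hzero m hm (hij ▸ hm), Pi.smul_apply, e_ne hm, smul_zero]
    exact this ▸ hw
  exact ⟨i', j', w, hij, hw, hwi', hsq, hzero⟩

set_option maxHeartbeats 1000000 in
/-- The final contradiction. -/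
theorem false [Finite F] : False := by
  classical
  have hn := h.ctx.dim
  have h2 := h.ctx.two
  obtain ⟨a, b, w, hab, hwW, hwa, hsq, hz0⟩ := h.exists_root
  have hwb : w b ≠ 0 := fun h0 => by
    rw [h0, mul_zero] at hsq
    exact hwa (mul_self_eq_zero.mp hsq)
  have hw0 : w ≠ 0 := fun h0 => hwa (by rw [h0]; rfl)
  obtain ⟨c, -, hc⟩ := Finset.exists_mem_notMem_of_card_lt_card (s := ({a, b} : Finset (Fin n)))
    (t := Finset.univ) (lt_of_le_of_lt Finset.card_le_two
      (by rw [Finset.card_univ, Fintype.card_fin]; omega))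
  obtain ⟨d, -, hd⟩ := Finset.exists_mem_notMem_of_card_lt_card (s := ({a, b, c} : Finset (Fin n)))
    (t := Finset.univ) (lt_of_le_of_lt Finset.card_le_three
      (by rw [Finset.card_univ, Fintype.card_fin]; omega))
  obtain ⟨k, -, hk⟩ := Finset.exists_mem_notMem_of_card_lt_card (s := ({a, b, c, d} : Finset (Fin n)))
    (t := Finset.univ) (lt_of_le_of_lt Finset.card_le_four
      (by rw [Finset.card_univ, Fintype.card_fin]; omega))
  simp only [Finset.mem_insert, Finset.mem_singleton, not_or] at hc hd hk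
  obtain ⟨hca, hcb⟩ := hc
  obtain ⟨hda, hdb, hdc⟩ := hd
  obtain ⟨hka, hkb, hkc, hkd⟩ := hk
  set T : Finset (Fin n) := {a, c, d, k} with hT
  have hTc : T.card = 4 := by
    rw [hT]; simp [Ne.symm hca, Ne.symm hda, Ne.symm hka, Ne.symm hdc, Ne.symm hkc, Ne.symm hkd]
  have hbT : b ∉ T := by simp [hT, Ne.symm hab, Ne.symm hcb, Ne.symm hdb, Ne.symm hkb]
  obtain ⟨v, hv, hvT, hvx, hvy⟩ := h.four_vec T hTc
  obtain ⟨z, hz, hz1, hcf, hzm, hzI, hz2, hTp, hzW, horb⟩ := h.central hTc.le
    (L.mul_mem (h.ctx.pair a c) (h.ctx.pair d k))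
    (flip_four h2 (Ne.symm hca) (Ne.symm hda) (Ne.symm hka) (Ne.symm hdc) (Ne.symm hkc)
      (Ne.symm hkd)) hv hvT hvx hvy
  have hsymm : ∀ (u : (Fin n → F)) (i : Fin n), z u i = u ⬝ᵥ z (e i) := fun u i => by
    rw [← hzI u (z (e i)), ← LinearEquiv.mul_apply z z (e i), hz2, LinearEquiv.coe_one, id_eq, dot_e]
  -- outside `T` only `b` may move, to its negative
  have hmove : ∀ i ∉ T, z (e i) ≠ e i → i = b ∧ ∃ s : F, z (e b) = s • e b := by
    intro i hi hmov
    obtain ⟨j, s, w', hij, hw', hwi, hz', hsq'⟩ := horb i hi hmov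
    obtain ⟨t, ht⟩ := h.prop_of_small hwW hw' hw0 (T ∪ {a, b, i, j})
      (lt_of_le_of_lt ((Finset.card_union_le _ _).trans
        (Nat.add_le_add hTc.le Finset.card_le_four)) (by omega))
      (fun m hm => by
        simp only [Finset.mem_union, Finset.mem_insert, Finset.mem_singleton, not_or] at hm
        exact hz0 m hm.2.1 hm.2.2.1)
      (fun m hm => by
        simp only [Finset.mem_union, Finset.mem_insert, Finset.mem_singleton, not_or] at hm
        exact hz' m hm.1 hm.2.2.2.1 hm.2.2.2.2)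
    have hib : ∀ l, l ∉ T → w' l ≠ 0 → l = b := fun l hl hwl => by
      by_contra hne
      refine hwl ?_
      rw [ht, Pi.smul_apply, hz0 l (fun e0 => hl (by rw [e0, hT]; simp)) hne, smul_zero]
    have hi' := hib i hi hwi
    refine ⟨hi', s, ?_⟩
    have hji : j = i := by
      rcases hsq' with e0 | e0
      · exact e0
      · rw [hib j (fun hj => hi ((hTp i j s hij).mpr hj)) (fun h0 => hwi (by
          rw [h0, mul_zero] at e0; exact mul_self_eq_zero.mp e0)), hi']
    rw [← hi']
    exact hji ▸ hij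
  have hfix : ∀ i, i ∉ T → i ≠ b → z (e i) = e i := fun i hi hib =>
    by_contra fun hh => hib (hmove i hi hh).1
  obtain ⟨sb, hzb⟩ : ∃ s : F, z (e b) = s • e b := by
    by_cases hh : z (e b) = e b
    · exact ⟨1, by rw [hh, one_smul]⟩
    · exact (hmove b hbT hh).2
  have hsb : sb ≠ 0 := fun h0 => by
    have := mono_pair hzI hzb
    rw [h0, zero_mul] at this; exact zero_ne_one this
  -- the eigenvalue on `w`
  have hzwb : z w b = sb * w b := by
    rw [hsymm, hzb, dotProduct_smul, dot_e, smul_eq_mul]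
  obtain ⟨s, hzw⟩ := h.prop_of_small hwW (hzW w hwW) hw0 (T ∪ {a, b})
    (lt_of_le_of_lt ((Finset.card_union_le _ _).trans
      (Nat.add_le_add hTc.le Finset.card_le_two)) (by omega))
    (fun m hm => by
      simp only [Finset.mem_union, Finset.mem_insert, Finset.mem_singleton, not_or] at hm
      exact hz0 m hm.2.1 hm.2.2)
    (fun m hm => by
      simp only [Finset.mem_union, Finset.mem_insert, Finset.mem_singleton, not_or] at hm
      rw [hsymm, hfix m hm.1 hm.2.2, dot_e]
      exact hz0 m hm.2.1 hm.2.2)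
  have hssb : s = sb := by
    rw [hzw, Pi.smul_apply, smul_eq_mul] at hzwb
    exact mul_right_cancel₀ hwb hzwb
  subst hssb
  have haT : a ∈ T := by simp [hT]
  obtain ⟨ja, sa, hja⟩ := hzm a
  have hsa0 : sa ≠ 0 := fun h0 => by
    have := mono_pair hzI hja
    rw [h0, zero_mul] at this; exact zero_ne_one this
  have hjaa : ja = a := by
    by_contra hne
    have h1 : z w ja = sa * w a := by
      rw [hsymm, mono_back hzI hz2 hja, dotProduct_smul, dot_e, smul_eq_mul]
    have hjaT := (hTp a ja sa hja).mp haT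
    rw [hzw, Pi.smul_apply, hz0 ja hne (fun e0 => hbT (e0 ▸ hjaT)), smul_zero] at h1
    exact mul_ne_zero hsa0 hwa h1.symm
  subst hjaa
  have hsas : sa = s := by
    have h1 : z w ja = sa * w ja := by rw [hsymm, hja, dotProduct_smul, dot_e, smul_eq_mul]
    rw [hzw, Pi.smul_apply, smul_eq_mul] at h1
    exact (mul_right_cancel₀ hwa h1).symm
  subst hsas
  -- the second vector of the pair's space
  obtain ⟨α, β, hwab⟩ := hwW
  have hwW' : InW x y w := ⟨α, β, hwab⟩
  set v2 := β • x + (-α) • y with hv2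
  have hv2W : InW x y v2 := ⟨β, -α, rfl⟩
  have hdd : ∀ p q p' q' : F, (p • x + q • y) ⬝ᵥ (p' • x + q' • y) = p * p' + q * q' := fun p q p' q' => by
    simp only [add_dotProduct, dotProduct_add, smul_dotProduct, dotProduct_smul, h.x_one, h.y_one,
      h.ortho, dotProduct_comm y x, smul_eq_mul, mul_one, mul_zero, add_zero, zero_add]
    ring
  have hnorm : α * α + β * β ≠ 0 := by
    rw [← hdd α β α β, ← hwab, dot_two hab hz0, ← hsq, ← two_mul]
    exact mul_ne_zero h2 (mul_ne_zero hwa hwa)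
  have hv2out : ∀ m, m ≠ ja → m ≠ b → v2 m ≠ 0 := by
    intro m hma hmb h0
    obtain ⟨t, ht⟩ := h.prop_of_zero hwW' hv2W hw0 (hz0 m hma hmb) h0
    have h1 := congrArg (fun u => w ⬝ᵥ u) ht
    simp only [dotProduct_smul, smul_eq_mul] at h1
    rw [hv2, hwab, hdd, hdd] at h1
    have ht0 : t = 0 := (mul_eq_zero.mp (by linear_combination -h1 :
      t * (α * α + β * β) = 0)).resolve_right hnorm
    rw [ht0, zero_smul] at ht
    have h3 := congrArg (fun u => x ⬝ᵥ u) ht
    have h4 := congrArg (fun u => y ⬝ᵥ u) ht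
    simp only [hv2, dotProduct_add, dotProduct_smul, h.x_one, h.y_one, h.ortho, dotProduct_comm y x,
      dotProduct_zero, smul_eq_mul, mul_one, mul_zero, add_zero, zero_add, neg_eq_zero] at h3 h4
    exact hnorm (by rw [h3, h4]; ring)
  -- an index fixed outside
  obtain ⟨m, -, hm⟩ := Finset.exists_mem_notMem_of_card_lt_card (s := insert b T)
    (t := Finset.univ) (lt_of_le_of_lt (Finset.card_insert_le _ _)
      (by rw [hTc, Finset.card_univ, Fintype.card_fin]; omega))
  simp only [Finset.mem_insert, not_or] at hm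
  have hma : m ≠ ja := fun e0 => hm.2 (e0 ▸ haT)
  have hzv2 : z v2 = v2 := by
    obtain ⟨p, q, hpq⟩ := hzW v2 hv2W
    have h1 : z v2 ⬝ᵥ z w = 0 := by rw [hzI, hv2, hwab, hdd]; ring
    rw [hzw, dotProduct_smul, hpq, hwab, hdd, smul_eq_mul] at h1
    have hpq0 := (mul_eq_zero.mp h1).resolve_left hsb
    have h3 : z v2 m = v2 m := by rw [hsymm, hfix m hm.2 hm.1, dot_e]
    have h5 : (p • x + q • y : (Fin n → F)) = ((p * β - q * α) / (α * α + β * β)) • v2 := by
      rw [hv2, smul_add, smul_smul, smul_smul]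
      congr 2 <;> rw [div_mul_eq_mul_div, eq_div_iff hnorm]
      · linear_combination α * hpq0
      · linear_combination β * hpq0
    rw [hpq, h5] at h3 ⊢
    rw [Pi.smul_apply, smul_eq_mul] at h3
    rw [mul_right_cancel₀ (hv2out m hma hm.1) (h3.trans (one_mul _).symm), one_smul]
  have hrest : ∀ t, t = c ∨ t = d ∨ t = k → z (e t) = e t ∨ ∃ (j : Fin n) (s : F),
      (j = c ∨ j = d ∨ j = k) ∧ j ≠ t ∧ z (e t) = s • e j := by
    intro t ht
    have htT : t ∈ T := by rcases ht with rfl | rfl | rfl <;> simp [hT]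
    have hta : t ≠ ja ∧ t ≠ b := by
      rcases ht with rfl | rfl | rfl
      exacts [⟨hca, hcb⟩, ⟨hda, hdb⟩, ⟨hka, hkb⟩]
    obtain ⟨j, s', hj⟩ := hzm t
    have hjT := (hTp t j s' hj).mp htT
    have hjne : j ≠ ja := fun e0 => hta.1 (mono_inj hzI hj (show z (e ja) = sa • e j by rw [e0]; exact hja))
    simp only [hT, Finset.mem_insert, Finset.mem_singleton] at hjT
    by_cases hjt : j = t
    · subst hjt
      refine Or.inl ?_
      have h1 : z v2 j = s' * v2 j := by rw [hsymm, hj, dotProduct_smul, dot_e, smul_eq_mul]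
      rw [hzv2] at h1
      rw [hj, mul_right_cancel₀ (hv2out j hta.1 hta.2) (h1.symm.trans (one_mul _).symm), one_smul]
    · exact Or.inr ⟨j, s', hjT.resolve_left hjne, hjt, hj⟩
  have hout : ∀ i, i ≠ ja → i ≠ b → i ≠ c → i ≠ d → i ≠ k → z (e i) = e i := fun i h1 h3 h4 h5 h6 =>
    hfix i (by simp [hT, h1, h4, h5, h6]) h3
  -- either nothing moves in `{c, d, k}` or exactly one pair is exchanged
  have key : (∀ i, i ≠ ja → i ≠ b → z (e i) = e i) ∨ ∃ (p q : Fin n) (t : F), p ≠ q ∧ p ≠ ja ∧ p ≠ b ∧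
      q ≠ ja ∧ q ≠ b ∧ t * t = 1 ∧ z (e p) = t • e q ∧
      ∀ i, i ≠ ja → i ≠ b → i ≠ p → i ≠ q → z (e i) = e i := by
    by_cases hall : z (e c) = e c ∧ z (e d) = e d ∧ z (e k) = e k
    · refine Or.inl fun i h1 h3 => ?_
      by_cases h4 : i = c; · rw [h4]; exact hall.1
      by_cases h5 : i = d; · rw [h5]; exact hall.2.1
      by_cases h6 : i = k; · rw [h6]; exact hall.2.2
      exact hout i h1 h3 h4 h5 h6
    obtain ⟨p, hp, hpm⟩ : ∃ p, (p = c ∨ p = d ∨ p = k) ∧ z (e p) ≠ e p := by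
      by_contra hcon
      push Not at hcon
      exact hall ⟨hcon c (Or.inl rfl), hcon d (Or.inr (Or.inl rfl)), hcon k (Or.inr (Or.inr rfl))⟩
    obtain ⟨q, t, hq, hqp, hpq⟩ := (hrest p hp).resolve_left hpm
    have hmem : ∀ t, t = c ∨ t = d ∨ t = k → t ≠ ja ∧ t ≠ b := by
      rintro t (rfl | rfl | rfl)
      exacts [⟨hca, hcb⟩, ⟨hda, hdb⟩, ⟨hka, hkb⟩]
    refine Or.inr ⟨p, q, t, Ne.symm hqp, (hmem p hp).1, (hmem p hp).2, (hmem q hq).1, (hmem q hq).2,
      mono_pair hzI hpq, hpq, fun i h1 h3 h4 h5 => ?_⟩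
    by_cases hcdk : i = c ∨ i = d ∨ i = k
    · refine (hrest i hcdk).resolve_right ?_
      rintro ⟨j, s', hj, hji, hij⟩
      have hjp : j ≠ p := fun e0 => by
        have hqb := mono_back hzI hz2 hpq
        exact h5 (mono_inj hzI (e0 ▸ hij) hqb)
      have hjq : j ≠ q := fun e0 => h4 (mono_inj hzI (e0 ▸ hij) hpq)
      rcases hp with rfl | rfl | rfl <;> rcases hq with rfl | rfl | rfl <;>
        rcases hj with rfl | rfl | rfl <;> rcases hcdk with rfl | rfl | rfl <;> contradiction
    · push Not at hcdk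
      exact hout i h1 h3 hcdk.1 hcdk.2.1 hcdk.2.2
  have hs2 := mono_pair hzI hzb
  rcases mul_self_eq_one_iff.mp hs2 with hs1 | hs1 <;> subst hs1
  · -- both fixed
    rcases key with hk | ⟨p, q, t, hpq, -, -, -, -, ht, hzp, hk⟩
    · refine hz1 (ext_e fun i => ?_)
      by_cases h1 : i = ja; · rw [h1, hja, one_smul]; rfl
      by_cases h3 : i = b; · rw [h3, hzb, one_smul]; rfl
      exact hk i h1 h3
    · have hu : (e p - t • e q : (Fin n → F)) ⬝ᵥ (e p - t • e q) = 2 := by
        simp only [sub_dotProduct, dotProduct_sub, smul_dotProduct, dotProduct_smul, e_dot_self,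
          e_dot_ne hpq, e_dot_ne (Ne.symm hpq), smul_eq_mul, mul_zero, mul_one, sub_zero, zero_sub]
        linear_combination ht
      have : z = R (e p - t • e q) := ext_e fun i => by
        by_cases h1 : i = p
        · subst h1
          rw [hzp, R_apply, hu, sub_dotProduct, smul_dotProduct, e_dot, e_dot, e_same,
            e_ne (Ne.symm hpq), smul_zero, sub_zero, mul_one, div_self h2, one_smul, sub_sub_cancel]
        by_cases h3 : i = q
        · subst h3
          rw [mono_back hzI hz2 hzp, R_apply, hu, sub_dotProduct, smul_dotProduct, e_dot, e_dot,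
            e_same, e_ne hpq, smul_eq_mul, mul_one, zero_sub, mul_neg, neg_div,
            mul_div_cancel_left₀ _ h2, neg_smul, sub_neg_eq_add, smul_sub, smul_smul, ht, one_smul]
          abel
        rw [R_of_ortho (by rw [dot_e]; simp [e_ne h1, e_ne h3])]
        by_cases h4 : i = ja; · rw [h4, hja, one_smul]
        by_cases h5 : i = b; · rw [h5, hzb, one_smul]
        exact hk i h4 h5 h1 h3
      have hdet := h.ctx.det z hz
      rw [this, det_R (by rw [hu]; exact h2)] at hdet
      exact h.ctx.neg_one_ne hdet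
  · -- both negated
    have hja' : z (e ja) = -e ja := by rw [hja, neg_one_smul]
    have hzb' : z (e b) = -e b := by rw [hzb, neg_one_smul]
    have hab' := flip_pair (F := F) h2 hab
    rcases key with hk | ⟨p, q, t, hpq, hpa, hpb, hqa, hqb, ht, hzp, hk⟩
    · have hze : z = R (e ja) * R (e b) := ext_e fun i => by
        rw [hab' i]
        simp only [Finset.mem_insert, Finset.mem_singleton]
        by_cases h1 : i = ja; · rw [h1, if_pos (Or.inl rfl), hja']
        by_cases h3 : i = b; · rw [h3, if_pos (Or.inr rfl), hzb']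
        rw [if_neg (by simp [h1, h3]), hk i h1 h3]
      refine h.not_mono (h.ctx.mono_of_commute h.rigid
        (le_trans Finset.card_le_two (by norm_num)) ⟨ja, by simp⟩ hab' h.mem ?_)
      rw [← hze]
      exact hcf.symm
    · have hu : (e p - t • e q : (Fin n → F)) ⬝ᵥ (e p - t • e q) = 2 := by
        simp only [sub_dotProduct, dotProduct_sub, smul_dotProduct, dotProduct_smul, e_dot_self,
          e_dot_ne hpq, e_dot_ne (Ne.symm hpq), smul_eq_mul, mul_zero, mul_one, sub_zero, zero_sub]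
        linear_combination ht
      have : z = R (e ja) * R (e b) * R (e p - t • e q) := ext_e fun i => by
        rw [LinearEquiv.mul_apply]
        by_cases h1 : i = p
        · subst h1
          rw [hzp, R_apply, hu, sub_dotProduct, smul_dotProduct, e_dot, e_dot, e_same,
            e_ne (Ne.symm hpq), smul_zero, sub_zero, mul_one, div_self h2, one_smul, sub_sub_cancel,
            map_smul, hab' q]
          simp [hqa, hqb]
        by_cases h3 : i = q
        · subst h3
          rw [mono_back hzI hz2 hzp, R_apply, hu, sub_dotProduct, smul_dotProduct, e_dot, e_dot,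
            e_same, e_ne hpq, smul_eq_mul, mul_one, zero_sub, mul_neg, neg_div,
            mul_div_cancel_left₀ _ h2, neg_smul, sub_neg_eq_add, smul_sub, smul_smul, ht, one_smul,
            add_sub_cancel, map_smul, hab' p]
          simp [hpa, hpb]
        rw [R_of_ortho (by rw [dot_e]; simp [e_ne h1, e_ne h3]), hab' i]
        simp only [Finset.mem_insert, Finset.mem_singleton]
        by_cases h4 : i = ja; · rw [h4, if_pos (Or.inl rfl), hja']
        by_cases h5 : i = b; · rw [h5, if_pos (Or.inr rfl), hzb']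
        rw [if_neg (by simp [h4, h5]), hk i h4 h5 h1 h3]
      have hdet := h.ctx.det z hz
      rw [this, map_mul, map_mul, det_R (by rw [e_dot_self]; exact one_ne_zero),
        det_R (by rw [e_dot_self]; exact one_ne_zero), det_R (by rw [hu]; exact h2),
        neg_mul_neg, one_mul, one_mul] at hdet
      exact h.ctx.neg_one_ne hdet

end Bad

/-- **Rigidity**: under `AxisRigid` every element is monomial. -/
theorem Ctx.all_mono [Finite F] {L : Subgroup ((Fin n → F) ≃ₗ[F] (Fin n → F))} (h : Ctx L)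
    (hA : AxisRigid L) {g : ((Fin n → F) ≃ₗ[F] (Fin n → F))} (hg : g ∈ L) : IsMono g := by
  classical
  have hn := h.dim
  have hgI := h.iso g hg
  have hu : ∀ i, g (e i) ⬝ᵥ g (e i) = 1 := fun i => by rw [hgI, e_dot_self]
  have hshape : ∀ k, IsAxis (g (e k)) ∨ IsDiag (g (e k)) := fun k => by
    refine line_cases h.two hgI k (Finset.univ.erase k) ?_ (Finset.notMem_erase k _) fun l hl => ?_
    · rw [Finset.card_erase_of_mem (Finset.mem_univ k), Finset.card_univ, Fintype.card_fin]; omega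
    by_contra hm
    exact (Bad.mk h hA (hu k) (hu l)
      (by rw [hgI, e_dot_ne (fun e0 => Finset.ne_of_mem_erase hl e0.symm)])
      (by rw [← R_mul_conj hgI]; exact L.mul_mem (L.mul_mem hg (h.pair k l)) (L.inv_mem hg))
      hm).false
  by_cases hd : ∃ k, IsDiag (g (e k))
  · obtain ⟨k, hk⟩ := hd
    obtain ⟨q, hq, ⟨c, hqc⟩, hqm⟩ := h.exists_fix_not_mono hg Finset.univ
      (by rw [Finset.card_univ, Fintype.card_fin]; omega) (fun k _ => hshape k)
      (fun _ _ l hl => absurd (Finset.mem_univ l) hl) (Finset.mem_univ k) hk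
    exact absurd (hA q hq ⟨c, c, 1, by rw [one_smul, hqc]⟩) hqm
  · push Not at hd
    obtain ⟨j, c, hj⟩ := (hshape ⟨0, h.n_pos⟩).resolve_right (hd _)
    exact hA g hg ⟨_, j, c, hj⟩

end Cfsg.Agent.K41.Mono
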