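import Cfsg.Agent.Lib.DicksonFull.Maximal

/-!
A criterion, by traces, for a subgroup of `PSL(2, F)`, `F` of prime order, to be the whole group.
-/

set_option autoImplicit false

namespace Cfsg.Agent.K41.Mono.Psl

open Matrix MulAction Cfsg.Agent.Lib.Linear Cfsg.Agent.Lib.DicksonFull

section Orbit

variable {G Ω : Type*} [Group G] [Finite G] [MulAction G Ω] [Finite Ω]

theorem arith_big {N a b c : ℕ} (ha : a ∣ N) (hb : b ∣ N) (ha2 : 2 * a ≤ N) (hb2 : 2 * b ≤ N)
    (hc : 6 * c ≤ N) (hN : 0 < N) (hsum : a + b + c = N + 2) : c = 2 := by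
  have key : ∀ t, t ∣ N → 2 * t ≤ N → 2 * t = N ∨ 3 * t ≤ N := by
    intro t ht ht2
    obtain ⟨x, rfl⟩ := ht
    rcases Nat.lt_or_ge x 3 with hx | hx
    · interval_cases x <;> omega
    · exact Or.inr (by rw [mul_comm 3 t]; exact Nat.mul_le_mul_left t hx)
  rcases key a ha ha2 with h | h <;> rcases key b hb hb2 with h' | h' <;> omega

/-- With an element of order at least six, a `p'`-group has a point stabiliser of index at most two. -/
theorem index_le_two_of_big {p : ℕ} [Fact p.Prime] (hA : IsDicksonAction p G Ω)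
    (hp : ¬ p ∣ Nat.card G) {g : G} (hg : 6 ≤ orderOf g) :
    ∃ ω : Ω, (stabilizer G ω).index ≤ 2 := by
  classical
  haveI : Fintype G := Fintype.ofFinite G
  haveI : Fintype (Quotient (orbitRel G Ω)) := Fintype.ofFinite _
  have hg1 : g ≠ 1 := fun h => by rw [h, orderOf_one] at hg; omega
  have h2 : ∀ x ∈ Finset.univ.erase (1 : G), Nat.card (fixedBy Ω x) = 2 := fun x hx => by
    have hx1 : x ≠ 1 := (Finset.mem_erase.mp hx).1
    refine (hA.card_fixed x hx1).resolve_left fun h => hp ?_
    rw [← orderOf_eq_prime ((hA.pow_eq_one x hx1).mp h) hx1]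
    exact orderOf_dvd_natCard x
  have hB := burnside' G Ω
  rw [Finset.sum_congr rfl h2, Finset.sum_const, Finset.card_erase_of_mem (Finset.mem_univ _),
    Finset.card_univ, ← Nat.card_eq_fintype_card, smul_eq_mul] at hB
  set f : Quotient (orbitRel G Ω) → ℕ := fun c => Nat.card (orbit G c.out) with hf
  set S := Finset.univ.filter fun c => f c ≠ Nat.card G with hS
  have hB' : (Nat.card G - 1) * 2 = ∑ c ∈ S, (Nat.card G - f c) := by
    rw [hB]
    refine (Finset.sum_subset (Finset.subset_univ _) fun c _ hc => ?_).symm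
    simp [hS, f] at hc
    simp [f, hc]
  have hpos : ∀ c, 0 < f c := fun c => by
    haveI : Nonempty (orbit G c.out) := ⟨⟨c.out, mem_orbit_self _⟩⟩
    exact Nat.card_pos
  have hhalf : ∀ c ∈ S, 2 * f c ≤ Nat.card G := fun c hc =>
    two_mul_orbit_le (Finset.mem_filter.mp hc).2
  have hdvd : ∀ c, f c ∣ Nat.card G := fun c => Dvd.intro _ (card_orbit_mul c.out)
  have hidx : ∀ c, (stabilizer G (c.out : Ω)).index = f c := fun c => by
    rw [index_stabilizer]
    rfl
  -- a point fixed by `g`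
  obtain ⟨ω, hω⟩ : ∃ ω : Ω, g • ω = ω := by
    have h := h2 g (Finset.mem_erase.mpr ⟨hg1, Finset.mem_univ _⟩)
    haveI : Nonempty (fixedBy Ω g) := (Nat.card_pos_iff.mp (by omega)).1
    obtain ⟨⟨ω, hω⟩⟩ := ‹Nonempty (fixedBy Ω g)›
    exact ⟨ω, hω⟩
  set c₀ : Quotient (orbitRel G Ω) := Quotient.mk _ ω with hc₀
  have horb : orbit G c₀.out = orbit G ω := by
    rw [orbit_eq_iff]
    exact Quotient.exact (Quotient.out_eq c₀)
  have hf6 : 6 * f c₀ ≤ Nat.card G := by
    have h6 : 6 ≤ Nat.card (stabilizer G ω) := by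
      refine hg.trans ?_
      rw [← Nat.card_zpowers]
      exact Subgroup.card_le_of_le (Subgroup.zpowers_le.mpr hω)
    have h := card_orbit_mul (G := G) ω
    have hfc : f c₀ = Nat.card (orbit G ω) := by show Nat.card (orbit G c₀.out) = _; rw [horb]
    rw [← h, hfc, mul_comm 6]
    exact Nat.mul_le_mul_left _ h6
  have hc₀S : c₀ ∈ S := by
    refine Finset.mem_filter.mpr ⟨Finset.mem_univ _, fun he => ?_⟩
    have := hpos c₀
    omega
  have hcard : S.card ≤ 3 := by
    by_contra h
    have hbound : ∑ c ∈ S, (Nat.card G - f c) ≥ S.card * ((Nat.card G + 1) / 2) := by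
      rw [ge_iff_le, ← smul_eq_mul, ← Finset.sum_const]
      refine Finset.sum_le_sum fun c hc => ?_
      have := hhalf c hc
      omega
    have h4 := Nat.mul_le_mul_right ((Nat.card G + 1) / 2) (show 4 ≤ S.card by omega)
    have h5 : 4 * ((Nat.card G + 1) / 2) ≤ (Nat.card G - 1) * 2 := hB' ▸ h4.trans hbound
    have := Nat.card_pos (α := G)
    omega
  rw [← Finset.add_sum_erase _ _ hc₀S] at hB'
  have hT := Finset.card_erase_of_mem hc₀S
  have hN : 0 < Nat.card G := Nat.card_pos
  have := hpos c₀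
  rcases (show (S.erase c₀).card = 0 ∨ (S.erase c₀).card = 1 ∨ (S.erase c₀).card = 2 by omega) with
    h | h | h
  · rw [Finset.card_eq_zero.mp h, Finset.sum_empty] at hB'
    omega
  · obtain ⟨a, ha⟩ := Finset.card_eq_one.mp h
    have h1 := hhalf a (Finset.mem_of_mem_erase (ha ▸ Finset.mem_singleton_self a))
    rw [ha, Finset.sum_singleton] at hB'
    exact ⟨c₀.out, by rw [hidx]; have := hpos a; omega⟩
  · obtain ⟨a, b, hab, ha⟩ := Finset.card_eq_two.mp h
    have h1 := hhalf a (Finset.mem_of_mem_erase (a := c₀) (by rw [ha]; simp))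
    have h3 := hhalf b (Finset.mem_of_mem_erase (a := c₀) (by rw [ha]; simp))
    rw [ha, Finset.sum_pair hab] at hB'
    exact ⟨c₀.out, by rw [hidx, arith_big (hdvd a) (hdvd b) h1 h3 hf6 hN (by omega)]⟩

end Orbit

variable {F : Type*} [Field F]

local notation "SL2" => Matrix.SpecialLinearGroup (Fin 2) F
local notation "PSL2" => Matrix.ProjectiveSpecialLinearGroup (Fin 2) F
local notation "M2" => Matrix (Fin 2) (Fin 2) F

/-- The trace of a commutator. -/
theorem trace_commutator (s t : SL2) :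
    trace ((s * t * s⁻¹ * t⁻¹ : SL2) : M2) =
      trace (s : M2) ^ 2 + trace (t : M2) ^ 2 + trace ((s * t : SL2) : M2) ^ 2 -
        trace (s : M2) * trace (t : M2) * trace ((s * t : SL2) : M2) - 2 := by
  have hs := sl2_det s
  have ht := sl2_det t
  simp only [Matrix.SpecialLinearGroup.coe_mul, Matrix.SpecialLinearGroup.coe_inv,
    Matrix.adjugate_fin_two, Matrix.trace_fin_two, Matrix.mul_apply, Fin.sum_univ_two,
    Matrix.of_apply, Matrix.cons_val', Matrix.cons_val_zero, Matrix.cons_val_one,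
    Matrix.empty_val', Matrix.cons_val_fin_one]
  linear_combination
    (((t : M2) 0 0 + (t : M2) 1 1) ^ 2 -
      2 * ((t : M2) 0 0 * (t : M2) 1 1 - (t : M2) 0 1 * (t : M2) 1 0)) * hs +
    (((s : M2) 0 0 + (s : M2) 1 1) ^ 2 - 2) * ht

theorem scalar_sq {x : SL2} {a : F} (h : (x : M2) = a • 1) : a ^ 2 = 1 := by
  have := sl2_det x
  rw [h] at this
  simp at this
  linear_combination this

variable [Fintype F] {p : ℕ} [hp : Fact p.Prime]

/-- **Criterion.** -/
theorem eq_top_of_witness (hF : Fintype.card F = p) (hp2 : p ≠ 2) (M : Subgroup PSL2) {s t c d : SL2}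
    (hs : (s : PSL2) ∈ M) (ht : (t : PSL2) ∈ M) (hc : (c : PSL2) ∈ M) (hd : (d : PSL2) ∈ M)
    (hst : trace ((s * t * s⁻¹ * t⁻¹ : SL2) : M2) ≠ 2)
    (hts : trace (t : M2) ≠ 0) (hss : trace (s : M2) ≠ 0) (hs2 : trace (s : M2) ^ 2 ≠ 2)
    (hbig : trace (s : M2) ^ 2 = 4 ∨ (trace (s : M2) ^ 2 ≠ 1 ∧
      trace (s : M2) ^ 4 - 3 * trace (s : M2) ^ 2 + 1 ≠ 0))
    (hcd : trace ((c * d * c⁻¹ * d⁻¹ : SL2) : M2) ≠ 2 ∧
      trace ((c * d * c⁻¹ * d⁻¹ : SL2) : M2) ≠ -2) : M = ⊤ := by
  classical
  haveI : CharP F p := by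
    obtain ⟨q, hq⟩ := CharP.exists F
    obtain ⟨k, hqp, hk⟩ := FiniteField.card F q
    rw [hF] at hk
    have : q = p := ((Nat.prime_dvd_prime_iff_eq hqp hp.out).mp (hk ▸ dvd_pow_self q k.ne_zero))
    exact this ▸ hq
  have h2 : (2 : F) ≠ 0 := fun h => hp2 (((Nat.prime_dvd_prime_iff_eq hp.out Nat.prime_two).mp
    ((CharP.cast_eq_zero_iff F p 2).mp (by exact_mod_cast h))))
  have hns : ∀ a : F, (s : M2) ≠ a • 1 := fun a ha => hst (by
    have hz : s ∈ Subgroup.center SL2 := (mem_center_iff_smul s).mpr ⟨a, ha⟩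
    have : s * t * s⁻¹ * t⁻¹ = 1 := by
      rw [← Subgroup.mem_center_iff.mp hz t, mul_inv_cancel_right, mul_inv_cancel]
    rw [this]
    simp [Matrix.trace_fin_two, one_add_one_eq_two])
  set x := trace (s : M2) with hx
  have hone : ∀ y : SL2, (y : PSL2) = 1 ↔ ∃ a : F, (y : M2) = a • 1 := fun y =>
    (QuotientGroup.eq_one_iff y).trans (mem_center_iff_smul y)
  have hmk1 : (s : PSL2) ≠ 1 := fun h => by
    obtain ⟨a, ha⟩ := (hone s).mp h
    exact hns a ha
  have hdvdM : p ∣ Nat.card M := by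
    by_contra hM
    have h4 : x ^ 2 ≠ 4 := fun h4 => hM (by
      have hpow : (s : PSL2) ^ p = 1 := by
        rw [← QuotientGroup.mk_pow]
        obtain ⟨ε, hε, hεt⟩ : ∃ ε : F, ε ^ 2 = 1 ∧ x = 2 * ε :=
          ⟨x / 2, by field_simp; linear_combination h4, by field_simp⟩
        refine (hone _).mpr ⟨ε ^ p, ?_⟩
        have hsq : ((s : M2) - ε • 1) ^ 2 = 0 := by
          rw [pow_two, Matrix.sub_mul, Matrix.mul_sub, Matrix.mul_sub, sl2_mul_self]
          simp only [smul_mul_assoc, mul_smul_comm, one_mul, mul_one, smul_smul]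
          rw [← pow_two, hε, one_smul, ← hx, hεt, two_mul, add_smul]
          abel
        have h3 : ((s : M2) - ε • 1) ^ p = 0 := by
          rw [show p = 2 + (p - 2) by have := hp.out.two_le; omega, pow_add, hsq, zero_mul]
        rw [sub_pow_char_of_commute (p := p) (h := show Commute (s : M2) (ε • 1) from
          (Commute.one_right _).smul_right ε), sub_eq_zero, smul_pow, one_pow] at h3
        rw [Matrix.SpecialLinearGroup.coe_pow, h3]
      rw [← orderOf_eq_prime hpow hmk1, ← Subgroup.orderOf_mk (ha := hs)]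
      exact orderOf_dvd_natCard _)
    obtain ⟨h1, h5⟩ := hbig.resolve_left h4
    have hbigord : 6 ≤ orderOf (⟨(s : PSL2), hs⟩ : M) := by
      rw [Subgroup.orderOf_mk]
      by_contra hlt
      have hk := pow_orderOf_eq_one (s : PSL2)
      have hpos := orderOf_pos (s : PSL2)
      rw [← QuotientGroup.mk_pow] at hk
      obtain ⟨a, ha⟩ := (hone _).mp hk
      rw [Matrix.SpecialLinearGroup.coe_pow] at ha
      have hsq := sl2_mul_self s
      rw [← hx] at hsq
      have p2 : (s : M2) ^ 2 = x • (s : M2) - 1 := by rw [pow_two, hsq]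
      have p3 : (s : M2) ^ 3 = (x ^ 2 - 1) • (s : M2) - x • 1 := by
        rw [pow_succ, p2, Matrix.sub_mul, smul_mul_assoc, one_mul, hsq]; module
      have p4 : (s : M2) ^ 4 = (x ^ 3 - 2 * x) • (s : M2) - (x ^ 2 - 1) • 1 := by
        rw [pow_succ, p3, Matrix.sub_mul, smul_mul_assoc, smul_mul_assoc, one_mul, hsq]; module
      have p5 : (s : M2) ^ 5 = (x ^ 4 - 3 * x ^ 2 + 1) • (s : M2) - (x ^ 3 - 2 * x) • 1 := by
        rw [pow_succ, p4, Matrix.sub_mul, smul_mul_assoc, smul_mul_assoc, one_mul, hsq]; module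
      have kill : ∀ u v b : F, u • (s : M2) - v • 1 = b • 1 → u = 0 := by
        intro u v b h
        by_contra hu
        refine hns ((b + v) / u) (smul_right_injective M2 hu ?_)
        show u • (s : M2) = u • (((b + v) / u) • (1 : M2))
        rw [smul_smul, mul_div_cancel₀ _ hu, add_smul, ← h, sub_add_cancel]
      have hcases : orderOf (s : PSL2) = 1 ∨ orderOf (s : PSL2) = 2 ∨ orderOf (s : PSL2) = 3 ∨
          orderOf (s : PSL2) = 4 ∨ orderOf (s : PSL2) = 5 := by omega
      rcases hcases with e | e | e | e | e <;> rw [e] at ha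
      · rw [pow_one] at ha
        exact hns a ha
      · rw [p2, ← one_smul F (1 : M2)] at ha
        exact hss (kill x 1 a (by simpa using ha))
      · rw [p3] at ha
        exact h1 (by linear_combination kill _ _ a ha)
      · rw [p4] at ha
        have := kill _ _ a ha
        rcases mul_eq_zero.mp (show x * (x ^ 2 - 2) = 0 by linear_combination this) with h | h
        · exact hss h
        · exact hs2 (by linear_combination h)
      · rw [p5] at ha
        exact h5 (kill _ _ a ha)
    let E := FiniteField.Extension F p 2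
    haveI : Fintype E := Fintype.ofFinite E
    letI := actionExt E (algebraMap F E) M
    obtain ⟨ω, hω⟩ := index_le_two_of_big
      (isDicksonAction (p := p) E (FiniteField.finrank_extension F p 2) M) hM hbigord
    have hmem : ∀ g : M, g ^ 2 ∈ stabilizer M ω := fun g => by
      have : (stabilizer M ω).index = 1 ∨ (stabilizer M ω).index = 2 := by
        have := (stabilizer M ω).index_ne_zero_of_finite
        omega
      rcases this with h | h
      · rw [Subgroup.index_eq_one.mp h]; exact Subgroup.mem_top _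
      · exact Subgroup.sq_mem_of_index_two h g
    haveI := (stabilizer_props (p := p) E (algebraMap F E) M ω).2 (stabilizer M ω) le_rfl
      (fun hd => hM (hd.trans (Subgroup.card_subgroup_dvd_card _)))
    have h0 : (⟨_, hmem ⟨_, hs⟩⟩ : stabilizer M ω) * ⟨_, hmem ⟨_, ht⟩⟩ =
        ⟨_, hmem ⟨_, ht⟩⟩ * ⟨_, hmem ⟨_, hs⟩⟩ := Std.Commutative.comm (op := (· * ·)) _ _
    have h := congrArg (fun z : stabilizer M ω => ((z : M) : PSL2)) h0
    simp only [Subgroup.coe_mul, SubmonoidClass.coe_pow, ← QuotientGroup.mk_pow,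
      ← QuotientGroup.mk_mul] at h
    have h' : (((t ^ 2 * s ^ 2)⁻¹ * (s ^ 2 * t ^ 2) : SL2) : PSL2) = 1 := by
      rw [QuotientGroup.mk_mul, QuotientGroup.mk_inv, h, inv_mul_cancel]
    obtain ⟨a, ha⟩ := (hone _).mp h'
    have ha2 := scalar_sq ha
    have e0 : ((s ^ 2 * t ^ 2 : SL2) : M2) = a • ((t ^ 2 * s ^ 2 : SL2) : M2) := by
      rw [show s ^ 2 * t ^ 2 = t ^ 2 * s ^ 2 * ((t ^ 2 * s ^ 2)⁻¹ * (s ^ 2 * t ^ 2)) by group,
        Matrix.SpecialLinearGroup.coe_mul, ha, mul_smul_comm, mul_one]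
    rcases sq_eq_one_iff.mp ha2 with rfl | rfl
    · -- commuting squares
      rw [one_smul, Matrix.SpecialLinearGroup.coe_mul, Matrix.SpecialLinearGroup.coe_mul,
        Matrix.SpecialLinearGroup.coe_pow, Matrix.SpecialLinearGroup.coe_pow, pow_two, pow_two,
        sl2_mul_self, sl2_mul_self, ← hx] at e0
      have e1 : (x * trace (t : M2)) • ((s : M2) * (t : M2) - (t : M2) * (s : M2)) = 0 := by
        simp only [Matrix.sub_mul, Matrix.mul_sub, smul_mul_assoc, mul_smul_comm, one_mul, mul_one,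
          smul_smul] at e0
        linear_combination (norm := module) e0
      have e2 : s * t = t * s := Subtype.ext (by
        rw [Matrix.SpecialLinearGroup.coe_mul, Matrix.SpecialLinearGroup.coe_mul]
        exact sub_eq_zero.mp ((smul_eq_zero.mp e1).resolve_left (mul_ne_zero hss hts)))
      exact hst (by
        rw [e2, mul_inv_cancel_right, mul_inv_cancel]
        simp [Matrix.trace_fin_two, one_add_one_eq_two])
    · -- anticommuting squares
      have e1 := congrArg (fun A : M2 => trace (A * (((t ^ 2)⁻¹ : SL2) : M2))) e0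
      simp only [Matrix.SpecialLinearGroup.coe_mul] at e1
      rw [mul_assoc, ← Matrix.SpecialLinearGroup.coe_mul, mul_inv_cancel,
        Matrix.SpecialLinearGroup.coe_one, mul_one, smul_mul_assoc, Matrix.trace_smul,
        Matrix.trace_mul_comm (_ * _ : M2), ← mul_assoc, ← Matrix.SpecialLinearGroup.coe_mul,
        inv_mul_cancel, Matrix.SpecialLinearGroup.coe_one, one_mul,
        Matrix.SpecialLinearGroup.coe_pow, pow_two, sl2_mul_self, Matrix.trace_sub,
        Matrix.trace_smul, Matrix.trace_one, ← hx, Fintype.card_fin, smul_eq_mul, smul_eq_mul] at e1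
      exact hs2 (by
        apply mul_left_cancel₀ h2
        push_cast at e1
        linear_combination e1)
  rcases dvd_cases (p := p) M hdvdM with ⟨hcomm, -, -⟩ | ⟨q, k, hk, rfl, hk1, -, hcases⟩
  · exfalso
    have h := congrArg (fun z : M => (z : PSL2)) (hcomm ⟨_, hc⟩ ⟨_, hd⟩)
    simp only [Subgroup.coe_mul, Subgroup.coe_inv, SubmonoidClass.coe_pow, Subgroup.coe_one,
      ← QuotientGroup.mk_inv, ← QuotientGroup.mk_mul, ← QuotientGroup.mk_pow] at h
    obtain ⟨a, ha⟩ := (hone _).mp h
    set X : M2 := ((c * d * c⁻¹ * d⁻¹ : SL2) : M2)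
    have h3 : trace (X ^ p) = trace X := by
      have h1 := FiniteField.trace_pow_card X
      rwa [hF, ← hF, FiniteField.pow_card, hF] at h1
    rw [Matrix.SpecialLinearGroup.coe_pow] at ha
    rw [ha, Matrix.trace_smul, Matrix.trace_one, Fintype.card_fin] at h3
    have ha2 := scalar_sq (x := (c * d * c⁻¹ * d⁻¹) ^ p)
      (by rw [Matrix.SpecialLinearGroup.coe_pow]; exact ha)
    rcases sq_eq_one_iff.mp ha2 with rfl | rfl
    · exact hcd.1 (by rw [← h3]; simp)
    · exact hcd.2 (by rw [← h3]; simp)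
  have hk1' : k = 1 := by
    have := exponent_le (p := p) (f := 1) (by rw [hF, pow_one]) M hk1
    omega
  subst hk1'
  rw [pow_one] at hcases hk1
  have hpsl := card_psl_odd (F := F) (by rw [hF]; exact hp.out.odd_of_ne_two hp2)
  rw [hF] at hpsl
  have hle : Nat.card M ≤ Nat.card PSL2 := Subgroup.card_le_card_group M
  have hMpos : 0 < Nat.card M := Nat.card_pos
  rcases hcases with ⟨h, -⟩ | ⟨-, h | h⟩ | ⟨h3, h60⟩
  · exact absurd h hp2
  · exact Subgroup.eq_top_of_le_card M (by omega)
  · omega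
  · subst h3; omega

end Cfsg.Agent.K41.Mono.Psl
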