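import Cfsg.Agent.Lib.K41.Mono.Engine

/-!
The engine over the fields with three, five and seven elements, and the conclusion: outside the
monomial group every unit vector is paired.
-/

set_option autoImplicit false

namespace Cfsg.Agent.K41.Mono

open Matrix

variable {F : Type*} [Field F] [Fintype F] {n : ℕ} {p : ℕ} [Fact p.Prime]

theorem cast_mod (hF : Fintype.card F = p) {a b : ℕ} (h : (a : F) = (b : F)) : a % p = b % p := by
  rcases Nat.le_total a b with hab | hab
  · have h0 : ((b - a : ℕ) : F) = 0 := by rw [Nat.cast_sub hab, h, sub_self]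
    have := not_not.mp (mt (natCast_ne (F := F) hF (m := b - a)) (not_not.mpr h0))
    exact ((Nat.modEq_iff_dvd' hab).mpr this)
  · have h0 : ((a - b : ℕ) : F) = 0 := by rw [Nat.cast_sub hab, h, sub_self]
    have := not_not.mp (mt (natCast_ne (F := F) hF (m := a - b)) (not_not.mpr h0))
    exact ((Nat.modEq_iff_dvd' hab).mpr this).symm

theorem supp_turn (y : Fin n → F) {a : Fin n} (h2 : (2 : F) ≠ 0) (ha : y a ≠ 0)
    (hq : 1 - 2 * (y a * y a) ≠ 0) : supp (turn y a) = supp y := by
  ext i
  rw [mem_supp, mem_supp]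
  by_cases hi : i = a
  · subst hi; rw [turn_self]; exact ⟨fun _ => ha, fun _ => hq⟩
  · rw [turn_other y hi]
    simp [h2, ha]

theorem supp_turn_erase (y : Fin n → F) {a : Fin n} (h2 : (2 : F) ≠ 0) (ha : y a ≠ 0)
    (hq : 1 - 2 * (y a * y a) = 0) : supp (turn y a) = (supp y).erase a := by
  ext i
  rw [mem_supp, Finset.mem_erase, mem_supp]
  by_cases hi : i = a
  · subst hi; simp [turn_self, hq]
  · rw [turn_other y hi]
    simp [h2, ha, hi]

theorem turn_sq (y : Fin n → F) {a i : Fin n} (hi : i ≠ a) :
    turn y a i * turn y a i = 4 * (y a * y a) * (y i * y i) := by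
  rw [turn_other y hi]; ring

theorem supp_twist {y : Fin n → F} {a d : Fin n} (h2 : (2 : F) ≠ 0) (hd : y d = 0) (ha : y a ≠ 0)
    (hq : 1 - y a * y a ≠ 0) (hq' : 2 * (y a * y a) - 1 ≠ 0) :
    supp (twist y a d) = insert d (supp y) := by
  have had : a ≠ d := fun e1 => ha (e1 ▸ hd)
  ext i
  rw [mem_supp, Finset.mem_insert, mem_supp]
  by_cases hia : i = a
  · subst hia; rw [twist_self y had]; simp [ha]
  by_cases hid : i = d
  · subst hid; rw [twist_zero had hd]; simp [h2, hq, ha]
  rw [twist_other y hia hid]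
  simp [hq', hid]

/-- The frame of three coordinates. -/
def frameC {a b c : Fin n} (hab : a ≠ b) (hac : a ≠ c) (hbc : b ≠ c) : Frame F n where
  f₁ := e a
  f₂ := e b
  f₃ := e c
  ρ := 1
  h₁ := e_dot_self a
  h₂ := e_dot_self b
  h₃ := e_dot_self c
  h₁₂ := e_dot_ne hab
  h₁₃ := e_dot_ne hac
  h₂₃ := e_dot_ne hbc
  ρ_ne := one_ne_zero

theorem frameC_ι {a b c : Fin n} (hab : a ≠ b) (hac : a ≠ c) (hbc : b ≠ c) (v : Fin n → F)
    (hv : ∀ i, i ≠ a → i ≠ b → i ≠ c → v i = 0) :
    (frameC hab hac hbc).ι (v a, v b, v c) = v := by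
  ext i
  simp only [Frame.ι, frameC, Pi.add_apply, Pi.smul_apply, smul_eq_mul]
  by_cases h1 : i = a
  · subst h1; rw [e_same, e_ne hab, e_ne hac]; ring
  by_cases h4 : i = b
  · subst h4; rw [e_same, e_ne (Ne.symm hab), e_ne hbc]; ring
  by_cases h5 : i = c
  · subst h5; rw [e_same, e_ne (Ne.symm hac), e_ne (Ne.symm hbc)]; ring
  rw [e_ne h1, e_ne h4, e_ne h5, hv i h1 h4 h5]; ring

/-- An even permutation matching two supports of the same small size. -/
theorem exists_even_supp {v w : Fin n → F} {k : ℕ} (hv : (supp v).card = k)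
    (hw : (supp w).card = k) (hk : k + 2 ≤ n) :
    ∃ σ : Equiv.Perm (Fin n), Equiv.Perm.sign σ = 1 ∧ ∀ i, v (σ i) = 0 ↔ w i = 0 := by
  obtain ⟨σ, hσ, hmap⟩ := exists_even_map ((supp w).orderEmbOfFin hw) ((supp v).orderEmbOfFin hv)
    ((supp w).orderEmbOfFin hw).injective ((supp v).orderEmbOfFin hv).injective hk
  refine ⟨σ, hσ, fun i => ⟨fun h0 => ?_, fun h0 => ?_⟩⟩
  · by_contra hi
    obtain ⟨j, rfl⟩ : ∃ j, (supp w).orderEmbOfFin hw j = i := by
      have : i ∈ Set.range ((supp w).orderEmbOfFin hw) := by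
        rw [Finset.range_orderEmbOfFin]; exact mem_supp.mpr hi
      exact this
    exact mem_supp.mp (Finset.orderEmbOfFin_mem (supp v) hv j) (by rw [← hmap]; exact h0)
  · by_contra hi
    obtain ⟨j, hj⟩ : ∃ j, (supp v).orderEmbOfFin hv j = σ i := by
      have : σ i ∈ Set.range ((supp v).orderEmbOfFin hv) := by
        rw [Finset.range_orderEmbOfFin]; exact mem_supp.mpr hi
      exact this
    rw [← hmap, σ.injective.eq_iff] at hj
    exact mem_supp.mp (Finset.orderEmbOfFin_mem (supp w) hw j) (hj ▸ h0)

namespace Ctx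

variable {L : Subgroup ((Fin n → F) ≃ₗ[F] (Fin n → F))} (h : Ctx L)
variable (hF : Fintype.card F = p) (hp2 : p ≠ 2)

include h hF hp2

/-- Seven: the smallest support. -/
theorem seven_seed (hp : p = 7) {y : Fin n → F} (hy : InY L y) {a b c : Fin n} (hab : a ≠ b)
    (hac : a ≠ c) (hbc : b ≠ c) (hsupp : ∀ i, i ≠ a → i ≠ b → i ≠ c → y i = 0)
    (ea : y a * y a = 2) (eb : y b * y b = 2) (ec : y c * y c = 4) {v : Fin n → F}
    (hv : v ⬝ᵥ v = 1) : InY L v := by
  classical
  subst hp
  have hn := h.dim
  have h2 := h.two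
  have e7 : (7 : F) = 0 := by
    have := FiniteField.cast_card_eq_zero F
    rw [hF] at this; exact_mod_cast this
  have h3 : (3 : F) ≠ 0 := numeral_ne hF (by norm_num)
  set z : Fin n → F := y b • e a + (4 * y a) • e b + y a • e c with hz
  have hza : z a = y b := by simp [hz, e_same, e_ne hab, e_ne hac]
  have hzb : z b = 4 * y a := by simp [hz, e_same, e_ne (Ne.symm hab), e_ne hbc]
  have hzc : z c = y a := by simp [hz, e_same, e_ne (Ne.symm hac), e_ne (Ne.symm hbc)]
  have hz0 : ∀ i, i ≠ a → i ≠ b → i ≠ c → z i = 0 := fun i h1 h4 h5 => by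
    simp [hz, e_ne h1, e_ne h4, e_ne h5]
  have hinj : ∀ {x y z : Fin n}, x ≠ y → x ≠ z → y ≠ z → Function.Injective ![x, y, z] := by
    intro x y z h1 h3 h5 i j hij
    fin_cases i <;> fin_cases j <;> simp_all
  obtain ⟨σ, hσ, hmap⟩ := exists_even_map ![b, c, a] ![a, b, c]
    (hinj hbc (Ne.symm hab) (Ne.symm hac)) (hinj hab hac hbc) (by omega)
  have hσb : σ b = a := hmap 0
  have hσc : σ c = b := hmap 1
  have hσa : σ a = c := hmap 2
  have hzY : InY L z := h.inY_perm_sq hσ hy fun i => by
    by_cases h1 : i = a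
    · subst h1; rw [hσa, hzc]
    by_cases h4 : i = b
    · subst h4; rw [hσb, hza]
    by_cases h5 : i = c
    · subst h5; rw [hσc, hzb]; linear_combination 16 * ea - ec + 4 * e7
    rw [hsupp i h1 h4 h5, hz0 (σ i) (fun e1 => h4 (σ.injective (e1.trans hσb.symm)))
      (fun e1 => h5 (σ.injective (e1.trans hσc.symm)))
      (fun e1 => h1 (σ.injective (e1.trans hσa.symm)))]
  have hT : (frameC (F := F) hab hac hbc).Transit L := by
    refine Frame.transit_of_four _ h2 hF hp2 h (u := (y a, y b, y c)) (v := (1, 0, 0))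
      (w := (0, 1, 0)) (z := (y b, 4 * y a, y a)) (x := 5) (xt := 2 * y a) (xr := 8 * y a)
      ?_ ?_ ?_ ?_ ?_ ?_ ⟨?_, ?_⟩
    · intro x hx
      simp only [List.mem_cons, List.not_mem_nil, or_false] at hx
      rcases hx with rfl | rfl | rfl | rfl
      · exact ⟨by simp only [Model.q, frameC]; linear_combination ea + eb + ec + e7,
          by rw [frameC_ι hab hac hbc y hsupp]; exact hy⟩
      · exact ⟨by simp [Model.q], by simpa [Frame.ι, frameC] using h.inY_e a⟩
      · exact ⟨by simp [Model.q], by simpa [Frame.ι, frameC] using h.inY_e b⟩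
      · have hι := frameC_ι hab hac hbc z hz0
        rw [hza, hzb, hzc] at hι
        exact ⟨by simp only [Model.q, frameC]; linear_combination 17 * ea + eb + 5 * e7,
          by rw [hι]; exact hzY⟩
    all_goals try simp only [Model.q, frameC]
    · ring
    · ring
    · linear_combination 8 * ea - 2 * eb + e7
    · exact mul_ne_zero h2 (fun h0 => h2 (by rw [h0, mul_zero] at ea; exact ea.symm))
    · linear_combination 3 * e7
    · intro h0; exact h3 (by linear_combination -h0 - 12 * ea + 0 * e7)
    · intro h0; exact one_ne_zero (α := F) (by linear_combination h0 + 12 * ea)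
  exact h.all_units_of_coordTrans h3 hab hac hbc
    (coordTrans_of_frame hT hab hac hbc one_ne_zero rfl rfl (one_smul F _).symm) v hv

/-- Seven. -/
theorem units_seven (hp : p = 7) {y : Fin n → F} (hy : InY L y) {d : Fin n} (hd : y d = 0)
    (hy3 : 3 ≤ (supp y).card) {v : Fin n → F} (hv : v ⬝ᵥ v = 1) : InY L v := by
  classical
  have h2 := h.two
  have e7 : (7 : F) = 0 := by
    have := FiniteField.cast_card_eq_zero F
    rw [hF, hp] at this; exact_mod_cast this
  have hne : ∀ {m : ℕ} [m.AtLeastTwo], ¬ p ∣ (OfNat.ofNat m : ℕ) → (OfNat.ofNat m : F) ≠ 0 :=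
    fun hm => numeral_ne hF hm
  have h3 : (3 : F) ≠ 0 := hne (by rw [hp]; norm_num)
  induction hm : (supp y).card using Nat.strong_induction_on generalizing y d with
  | _ m ih =>
  subst hm
  have hcl : ∀ (w : Fin n → F) i, w i ≠ 0 → w i * w i = 1 ∨ w i * w i = 2 ∨ w i * w i = 4 := by
    intro w i hi
    have h6 := FiniteField.pow_card_sub_one_eq_one (w i) hi
    rw [hF, hp] at h6
    have : (w i * w i - 1) * ((w i * w i - 2) * (w i * w i - 4)) = 0 := by
      norm_num at h6
      linear_combination h6 - (w i ^ 4 - 2 * w i ^ 2 + 1) * e7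
    rcases mul_eq_zero.mp this with h' | h'
    · exact Or.inl (sub_eq_zero.mp h')
    rcases mul_eq_zero.mp h' with h' | h'
    · exact Or.inr (Or.inl (sub_eq_zero.mp h'))
    · exact Or.inr (Or.inr (sub_eq_zero.mp h'))
  -- removing a four
  have four : ∀ w : Fin n → F, InY L w → ∀ a, w a * w a = 4 → 4 ≤ (supp w).card →
      (supp w).card ≤ (supp y).card → InY L v := by
    intro w hw a hq h4 hle
    have ha : w a ≠ 0 := fun h0 => by
      rw [h0, mul_zero] at hq; exact h.four_ne hq.symm
    have hq' : 1 - 2 * (w a * w a) = 0 := by linear_combination -2 * hq - e7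
    have hs := supp_turn_erase w h2 ha hq'
    have hc : (supp (turn w a)).card = (supp w).card - 1 := by
      rw [hs, Finset.card_erase_of_mem (mem_supp.mpr ha)]
    exact ih _ (by omega) (h.inY_turn hw a) (d := a) (by rw [turn_self, hq']) (by omega) rfl
  -- two ones
  have ones : ∀ w : Fin n → F, InY L w → ∀ a k, a ≠ k → w a * w a = 1 → w k * w k = 1 →
      4 ≤ (supp w).card → (supp w).card ≤ (supp y).card → InY L v := by
    intro w hw a k hak ha hk h4 hle
    have ha0 : w a ≠ 0 := fun h0 => by rw [h0, mul_zero] at ha; exact zero_ne_one ha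
    have hs := supp_turn w h2 ha0 (fun h0 => one_ne_zero (α := F) (by
      rw [ha] at h0; linear_combination -h0))
    refine four _ (h.inY_turn hw a) k ?_ (by rw [hs]; omega) (by rw [hs]; omega)
    rw [turn_sq w (Ne.symm hak)]
    linear_combination 4 * (w k * w k) * ha + 4 * hk
  rcases Nat.lt_or_ge (supp y).card 4 with hsmall | hbig
  · obtain ⟨a, b, c, hab, hac, hbc, hS⟩ := Finset.card_eq_three.mp (show (supp y).card = 3 by omega)
    have hz : ∀ i, i ≠ a → i ≠ b → i ≠ c → y i = 0 := fun i h1 h4 h5 =>
      not_mem_supp.mp (by rw [hS]; simp [h1, h4, h5])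
    have hsum : y a * y a + y b * y b + y c * y c = 1 := by
      rw [← hy.1, ← sum_supp, hS, Finset.sum_insert (by simp [hab, hac]), Finset.sum_pair hbc,
        add_assoc]
    have hmem : a ∈ supp y ∧ b ∈ supp y ∧ c ∈ supp y := by rw [hS]; simp
    rcases hcl y a (mem_supp.mp hmem.1) with ea | ea | ea <;>
      rcases hcl y b (mem_supp.mp hmem.2.1) with eb | eb | eb <;>
      rcases hcl y c (mem_supp.mp hmem.2.2) with ec | ec | ec <;>
      first
      | exact h.seven_seed hF hp2 hp hy hab hac hbc hz ea eb ec hv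
      | exact h.seven_seed hF hp2 hp hy hac hab (Ne.symm hbc)
          (fun i h1 h4 h5 => hz i h1 h5 h4) ea ec eb hv
      | exact h.seven_seed hF hp2 hp hy hbc (Ne.symm hab) (Ne.symm hac)
          (fun i h1 h4 h5 => hz i h5 h1 h4) eb ec ea hv
      | (exfalso
         rw [ea, eb, ec] at hsum
         first
         | exact h2 (by linear_combination hsum)
         | exact h3 (by linear_combination hsum)
         | exact h.four_ne (by linear_combination hsum)
         | exact hne (m := 5) (by rw [hp]; norm_num) (by linear_combination hsum)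
         | exact hne (m := 6) (by rw [hp]; norm_num) (by linear_combination hsum)
         | exact hne (m := 8) (by rw [hp]; norm_num) (by linear_combination hsum)
         | exact hne (m := 9) (by rw [hp]; norm_num) (by linear_combination hsum)
         | exact hne (m := 11) (by rw [hp]; norm_num) (by linear_combination hsum))
  by_cases h4 : ∃ a, y a * y a = 4
  · obtain ⟨a, ha⟩ := h4
    exact four y hy a ha hbig le_rfl
  push Not at h4
  have h12 : ∀ i, y i ≠ 0 → y i * y i = 1 ∨ y i * y i = 2 := fun i hi =>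
    (hcl y i hi).imp id fun h' => h'.resolve_right (h4 i)
  by_cases h11 : ∃ a, y a * y a = 1
  · obtain ⟨a, ha⟩ := h11
    have ha0 : y a ≠ 0 := fun h0 => by rw [h0, mul_zero] at ha; exact zero_ne_one ha
    by_cases hk : ∃ k, k ≠ a ∧ y k * y k = 1
    · obtain ⟨k, hka, hk⟩ := hk
      exact ones y hy a k (Ne.symm hka) ha hk hbig le_rfl
    push Not at hk
    obtain ⟨k, hkS, hka⟩ := Finset.exists_mem_ne (by omega : 1 < (supp y).card) a
    have hk2 := (h12 k (mem_supp.mp hkS)).resolve_left (hk k hka)
    have hs := supp_turn y h2 ha0 (fun h0 => one_ne_zero (α := F) (by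
      rw [ha] at h0; linear_combination -h0))
    refine ones _ (h.inY_turn hy a) a k (Ne.symm hka) ?_ ?_ (by rw [hs]; omega) (by rw [hs])
    · rw [turn_self, ha]; ring
    · rw [turn_sq y hka]
      linear_combination 4 * (y k * y k) * ha + 4 * hk2 + e7
  push Not at h11
  have htwo : ∀ i, y i ≠ 0 → y i * y i = 2 := fun i hi => (h12 i hi).resolve_left (h11 i)
  obtain ⟨a, b, -, haS, hbS, -, hab, -, -⟩ :=
    Finset.two_lt_card_iff.mp (show 2 < (supp y).card by omega)
  have ha := mem_supp.mp haS
  have hqa := htwo a ha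
  have hbd : b ≠ d := fun e1 => mem_supp.mp hbS (e1 ▸ hd)
  have had : a ≠ d := fun e1 => ha (e1 ▸ hd)
  have hy' := h.inY_swap_of_values hy hd had {0, 2} (le_trans Finset.card_le_two (by norm_num))
    fun i _ _ => by
      simp only [Finset.mem_insert, Finset.mem_singleton]
      by_cases hi : y i = 0
      · exact Or.inl (by rw [hi, mul_zero])
      · exact Or.inr (htwo i hi)
  have hw := h.inY_twist hy hd hy'
  have hsw : supp (twist y a d) = insert d (supp y) := supp_twist h2 hd ha
    (fun h0 => one_ne_zero (α := F) (by linear_combination -h0 - hqa))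
    (fun h0 => h3 (by linear_combination h0 - 2 * hqa))
  set w := twist y a d with hwdef
  have hwb : w b * w b = 4 := by
    rw [hwdef, twist_other y (Ne.symm hab) hbd]
    linear_combination 4 * (y a * y a + 1) * (y b * y b) * hqa + 9 * htwo b (mem_supp.mp hbS) +
      2 * e7
  have hwa : w a * w a = 2 := by rw [hwdef, twist_self y had, hqa]
  have hb0 : w b ≠ 0 := fun h0 => by rw [h0, mul_zero] at hwb; exact h.four_ne hwb.symm
  have hq' : 1 - 2 * (w b * w b) = 0 := by linear_combination -2 * hwb - e7
  have hs := supp_turn_erase w h2 hb0 hq'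
  have hcard : (supp (turn w b)).card = (supp y).card := by
    rw [hs, Finset.card_erase_of_mem (mem_supp.mpr hb0), hsw,
      Finset.card_insert_of_notMem (not_mem_supp.mpr hd)]
    omega
  refine four _ (h.inY_turn hw b) a ?_ (by omega) (by omega)
  rw [turn_sq w hab]
  linear_combination 4 * (w a * w a) * hwb + 16 * hwa + 4 * e7

/-- Five. -/
theorem units_five (hp : p = 5) {y : Fin n → F} (hy : InY L y) {d : Fin n} (hd : y d = 0)
    (hy3 : 3 ≤ (supp y).card) {v : Fin n → F} (hv : v ⬝ᵥ v = 1) : InY L v := by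
  classical
  subst hp
  have h2 := h.two
  have e5 : (5 : F) = 0 := by
    have := FiniteField.cast_card_eq_zero F
    rw [hF] at this; exact_mod_cast this
  have h3 : (3 : F) ≠ 0 := numeral_ne hF (by norm_num)
  have hcl : ∀ (w : Fin n → F) i, w i ≠ 0 → w i * w i = 1 ∨ w i * w i = 4 := by
    intro w i hi
    have h4 := FiniteField.pow_card_sub_one_eq_one (w i) hi
    rw [hF] at h4
    have : (w i * w i - 1) * (w i * w i - 4) = 0 := by
      norm_num at h4
      linear_combination h4 - (w i ^ 2 - 1) * e5
    exact (mul_eq_zero.mp this).imp sub_eq_zero.mp sub_eq_zero.mp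
  -- two ones lose two coordinates
  have reduce : ∀ w : Fin n → F, InY L w → ∀ a b, a ≠ b → w a * w a = 1 → w b * w b = 1 →
      InY L v ∨ ∃ (x : Fin n → F) (d' : Fin n), InY L x ∧ x d' = 0 ∧ 3 ≤ (supp x).card ∧
        (supp x).card + 2 = (supp w).card := by
    intro w hw a b hab ha hb
    have hb0 : w b ≠ 0 := fun h0 => by rw [h0, mul_zero] at hb; exact zero_ne_one hb
    have ha0 : w a ≠ 0 := fun h0 => by rw [h0, mul_zero] at ha; exact zero_ne_one ha
    have hg : Good (4 * (w a * w a)) := Or.inl (by rw [ha, mul_one])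
    have hρ : 1 - w a * w a - w b * w b ≠ 0 := fun h0 =>
      one_ne_zero (α := F) (by linear_combination -h0 - ha - hb)
    have hρ1 : 1 - w a * w a - w b * w b ≠ 1 := fun h0 => h2 (by linear_combination -h0 - ha - hb)
    set R := ((supp w).erase a).erase b with hR
    have hRmem : ∀ i, i ∈ R ↔ i ≠ b ∧ i ≠ a ∧ w i ≠ 0 := fun i => by
      rw [hR, Finset.mem_erase, Finset.mem_erase, mem_supp]
    have hRcard : R.card + 2 = (supp w).card := by
      have h1 := Finset.card_erase_add_one (mem_supp.mpr ha0)
      have h5 := Finset.card_erase_add_one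
        (Finset.mem_erase.mpr ⟨Ne.symm hab, mem_supp.mpr hb0⟩ : b ∈ (supp w).erase a)
      rw [hR]
      omega
    have hRsum : ∑ i ∈ R, w i * w i = -1 := by
      have h1 := Finset.add_sum_erase (supp w) (fun i => w i * w i) (mem_supp.mpr ha0)
      have h5 := Finset.add_sum_erase ((supp w).erase a) (fun i => w i * w i)
        (Finset.mem_erase.mpr ⟨Ne.symm hab, mem_supp.mpr hb0⟩)
      rw [sum_supp, hw.1] at h1
      linear_combination h1 + h5 - ha - hb
    set f := w - w a • e a - w b • e b with hf
    have hfout : ∀ i, i ≠ a → i ≠ b → f i = w i := fun i h1 h4 => by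
      simp [hf, e_ne h1, e_ne h4]
    have hfa : f a = 0 := by simp [hf, e_same, e_ne hab]
    have hfb : f b = 0 := by simp [hf, e_same, e_ne (Ne.symm hab)]
    rcases (show R.card = 0 ∨ R.card = 1 ∨ R.card = 2 ∨ 3 ≤ R.card by omega) with
      hc | hc | hc | hc
    · rw [Finset.card_eq_zero.mp hc, Finset.sum_empty] at hRsum
      exact absurd (by linear_combination hRsum : (1 : F) = 0) one_ne_zero
    · obtain ⟨c, hcR⟩ := Finset.card_eq_one.mp hc
      obtain ⟨hcb, hca, hc0⟩ := (hRmem c).mp (by rw [hcR]; simp)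
      have hfc : f = w c • e c := by
        ext i
        rw [Pi.smul_apply, smul_eq_mul]
        by_cases hic : i = c
        · subst hic; rw [hfout i hca hcb, e_same, mul_one]
        rw [e_ne hic, mul_zero]
        by_cases hia : i = a
        · rw [hia, hfa]
        by_cases hib : i = b
        · rw [hib, hfb]
        rw [hfout i hia hib]
        by_contra hne
        have := (hRmem i).mpr ⟨hib, hia, hne⟩
        rw [hcR, Finset.mem_singleton] at this
        exact hic this
      refine Or.inl (h.all_units_of_coordTrans h3 hab (Ne.symm hca) (Ne.symm hcb)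
        (coordTrans_of_frame (h.transit_A hF hp2 hw hab hb0 hg hρ hρ1) hab (Ne.symm hca)
          (Ne.symm hcb) hc0 rfl rfl hfc) v hv)
    · obtain ⟨c, e', hce, hcR⟩ := Finset.card_eq_two.mp hc
      obtain ⟨-, -, hc0⟩ := (hRmem c).mp (by rw [hcR]; simp)
      obtain ⟨-, -, he0⟩ := (hRmem e').mp (by rw [hcR]; simp)
      rw [hcR, Finset.sum_pair hce] at hRsum
      exfalso
      rcases hcl w c hc0 with ec | ec <;> rcases hcl w e' he0 with ee | ee <;>
        rw [ec, ee] at hRsum <;>
        first
        | exact h3 (by linear_combination hRsum)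
        | exact one_ne_zero (α := F) (by linear_combination hRsum - e5)
        | exact h.four_ne (by linear_combination hRsum - e5)
    · refine Or.inr ⟨(2 : F) • f, a, ?_, by rw [Pi.smul_apply, hfa, smul_zero], ?_⟩
      · have := h.unit_A hF hp2 hw hab hb0 hg hρ hρ1 (α := 0) (β := 0) (γ := 2)
          (by rw [ha, hb]; linear_combination -e5)
        simpa using this
      have hs : supp ((2 : F) • f) = R := by
        ext i
        rw [mem_supp, hRmem, Pi.smul_apply, smul_eq_mul, mul_ne_zero_iff]
        by_cases hia : i = a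
        · subst hia; simp [hfa]
        by_cases hib : i = b
        · subst hib; simp [hfb]
        rw [hfout i hia hib]
        simp [hia, hib, h2]
      rw [hs]
      exact ⟨hc, hRcard⟩
  induction hm : (supp y).card using Nat.strong_induction_on generalizing y d with
  | _ m ih =>
  subst hm
  have step : ∀ w : Fin n → F, InY L w → ∀ a b, a ≠ b → w a * w a = 1 → w b * w b = 1 →
      (supp w).card ≤ (supp y).card + 1 → InY L v := by
    intro w hw a b hab ha hb hle
    rcases reduce w hw a b hab ha hb with hdone | ⟨x, d', hx, hxd, hx3, hxc⟩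
    · exact hdone
    · exact ih _ (by omega) hx (d := d') hxd hx3 rfl
  by_cases h1 : ∃ a, y a * y a = 1
  · obtain ⟨a, ha⟩ := h1
    have ha0 : y a ≠ 0 := fun h0 => by rw [h0, mul_zero] at ha; exact zero_ne_one ha
    by_cases hk : ∃ k, k ≠ a ∧ y k * y k = 1
    · obtain ⟨k, hka, hk⟩ := hk
      exact step y hy a k (Ne.symm hka) ha hk (by omega)
    push Not at hk
    obtain ⟨k, hkS, hka⟩ := Finset.exists_mem_ne (by omega : 1 < (supp y).card) a
    have hk4 := (hcl y k (mem_supp.mp hkS)).resolve_left (hk k hka)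
    have hs := supp_turn y h2 ha0 (fun h0 => one_ne_zero (α := F) (by
      rw [ha] at h0; linear_combination -h0))
    refine step _ (h.inY_turn hy a) a k (Ne.symm hka) ?_ ?_ (by rw [hs]; omega)
    · rw [turn_self, ha]; ring
    · rw [turn_sq y hka]
      linear_combination 4 * (y k * y k) * ha + 4 * hk4 + 3 * e5
  push Not at h1
  have h4 : ∀ i, y i ≠ 0 → y i * y i = 4 := fun i hi => (hcl y i hi).resolve_left (h1 i)
  obtain ⟨a, b, c, haS, hbS, hcS, hab, hac, hbc⟩ :=
    Finset.two_lt_card_iff.mp (show 2 < (supp y).card by omega)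
  have ha := mem_supp.mp haS
  have hqa := h4 a ha
  have hne : ∀ {i}, i ∈ supp y → i ≠ d := fun hi e1 => mem_supp.mp hi (e1 ▸ hd)
  have hy' := h.inY_swap_of_values hy hd (hne haS) {0, 4}
    (le_trans Finset.card_le_two (by norm_num)) fun i _ _ => by
      simp only [Finset.mem_insert, Finset.mem_singleton]
      by_cases hi : y i = 0
      · exact Or.inl (by rw [hi, mul_zero])
      · exact Or.inr (h4 i hi)
  have hw := h.inY_twist hy hd hy'
  have hsw : supp (twist y a d) = insert d (supp y) := supp_twist h2 hd ha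
    (fun h0 => h3 (by linear_combination -h0 - hqa))
    (fun h0 => h2 (by linear_combination h0 - 2 * hqa - e5))
  have key : ∀ k, k ∈ supp y → k ≠ a → twist y a d k * twist y a d k = 1 := fun k hk hka => by
    rw [twist_other y hka (hne hk)]
    linear_combination 4 * (y a * y a + 3) * (y k * y k) * hqa + 49 * h4 k (mem_supp.mp hk) +
      39 * e5
  refine step _ hw b c hbc (key b hbS (Ne.symm hab)) (key c hcS (Ne.symm hac)) ?_
  rw [hsw, Finset.card_insert_of_notMem (not_mem_supp.mpr hd)]

omit hp2 in
/-- Three. -/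
theorem units_three (hp : p = 3) {y : Fin n → F} (hy : InY L y)
    (hy2 : 2 ≤ (supp y).card) {v : Fin n → F} (hv : v ⬝ᵥ v = 1) : InY L v := by
  classical
  subst hp
  have hn := h.dim
  have h2 := h.two
  have e3 : (3 : F) = 0 := by
    have := FiniteField.cast_card_eq_zero F
    rw [hF] at this; exact_mod_cast this
  have hsq : ∀ (w : Fin n → F) i, w i ≠ 0 → w i * w i = 1 := fun w i hi => by
    have h' := FiniteField.pow_card_sub_one_eq_one (w i) hi
    rw [hF] at h'
    rw [← h', pow_two]
  have hmod : ∀ w : Fin n → F, w ⬝ᵥ w = 1 → (supp w).card % 3 = 1 := fun w hw => by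
    have := cast_mod (F := F) hF (a := (supp w).card) (b := 1) (by
      rw [Nat.cast_one, ← hw, ← sum_supp, Finset.sum_congr rfl (fun i hi => hsq w i (mem_supp.mp hi))]
      simp)
    simpa using this
  -- a weight four vector
  obtain ⟨y₄, hy₄, hc₄⟩ : ∃ y₄, InY L y₄ ∧ (supp y₄).card = 4 := by
    induction hm : (supp y).card using Nat.strong_induction_on generalizing y with
    | _ m ih =>
    subst hm
    have h1 := hmod y hy.1
    rcases Nat.lt_or_ge (supp y).card 7 with hlt | hge
    · exact ⟨y, hy, by omega⟩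
    obtain ⟨T, hT, hTc⟩ := Finset.exists_subset_card_eq (s := supp y) (n := 3) (by omega)
    set y' : Fin n → F := fun i => if i ∈ T then -y i else y i with hy'def
    have hy' : InY L y' := h.inY_of_sq hy fun i => by rw [hy'def]; dsimp only; split_ifs <;> ring
    have hdot : y ⬝ᵥ y' = 1 := by
      have : ∀ i, y i * y' i = y i * y i - if i ∈ T then 2 * (y i * y i) else 0 := fun i => by
        rw [hy'def]; dsimp only; split_ifs <;> ring
      rw [dotProduct, Finset.sum_congr rfl (fun i _ => this i), Finset.sum_sub_distrib,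
        Finset.sum_ite_mem, Finset.univ_inter, ← dotProduct, hy.1,
        Finset.sum_congr rfl (fun i hi => by rw [hsq y i (mem_supp.mp (hT hi))]),
        Finset.sum_const, hTc, nsmul_eq_mul]
      push_cast
      linear_combination -2 * e3
    have hx : InY L ((2 : F) • y - y') := by
      have := h.inY_neg (h.inY_R hy' hy)
      rw [R_unit hy.1, hdot, mul_one, neg_sub] at this
      exact this
    have hs : supp ((2 : F) • y - y') = supp y \ T := by
      ext i
      rw [mem_supp, Finset.mem_sdiff, mem_supp, Pi.sub_apply, Pi.smul_apply, smul_eq_mul, hy'def]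
      dsimp only
      by_cases hi : i ∈ T
      · rw [if_pos hi, show 2 * y i - -y i = 0 by linear_combination y i * e3]
        simp [hi]
      · rw [if_neg hi, show 2 * y i - y i = y i by ring]
        simp [hi]
    have hc : (supp ((2 : F) • y - y')).card = (supp y).card - 3 := by
      rw [hs, Finset.card_sdiff_of_subset hT, hTc]
    exact ih _ (by omega) hx (by omega) rfl
  have four : ∀ w : Fin n → F, (supp w).card = 4 → InY L w := fun w hw => by
    obtain ⟨σ, hσ, hz⟩ := exists_even_supp hw hc₄ (by omega)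
    refine h.inY_perm_sq hσ hy₄ fun i => ?_
    by_cases hi : y₄ i = 0
    · rw [hi, (hz i).mpr hi]
    · rw [hsq _ _ hi, hsq _ _ (fun h0 => hi ((hz i).mp h0))]
  induction hm : (supp v).card using Nat.strong_induction_on generalizing v with
  | _ m ih =>
  subst hm
  have h1 := hmod v hv
  rcases (show (supp v).card = 1 ∨ (supp v).card = 4 ∨ 7 ≤ (supp v).card by omega) with hc | hc | hc
  · obtain ⟨a, ha⟩ := Finset.card_eq_one.mp hc
    refine h.inY_of_sq (h.inY_e a) fun i => ?_
    by_cases hi : i = a
    · subst hi; rw [e_same, hsq v i (mem_supp.mp (by rw [ha]; simp)), one_mul]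
    · rw [e_ne hi, not_mem_supp.mp (show i ∉ supp v by rw [ha]; simpa using hi)]
  · exact four v hc
  obtain ⟨S, hS, hSc⟩ := Finset.exists_subset_card_eq (s := supp v) (n := 4) (by omega)
  obtain ⟨a, ha⟩ : S.Nonempty := Finset.card_pos.mp (by omega)
  set u : Fin n → F := fun i => if i = a then v i else if i ∈ S then -v i else 0 with hudef
  have hu4 : supp u = S := by
    ext i
    rw [mem_supp, hudef]
    dsimp only
    by_cases hia : i = a
    · subst hia; rw [if_pos rfl]; simp [ha, mem_supp.mp (hS ha)]
    rw [if_neg hia]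
    by_cases hi : i ∈ S
    · rw [if_pos hi]; simp [hi, mem_supp.mp (hS hi)]
    · rw [if_neg hi]; simp [hi]
  have hu : InY L u := four u (by rw [hu4, hSc])
  have hdot : u ⬝ᵥ v = 1 := by
    have e1 : ∀ i ∈ S, u i * v i = if i = a then 1 else -1 := fun i hi => by
      rw [hudef]; dsimp only
      have := hsq v i (mem_supp.mp (hS hi))
      by_cases hia : i = a
      · rw [if_pos hia, if_pos hia]; exact this
      · rw [if_neg hia, if_pos hi, if_neg hia]; linear_combination -this
    rw [dotProduct, ← Finset.sum_subset (Finset.subset_univ S) (fun i _ hi => by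
      rw [← hu4] at hi; rw [not_mem_supp.mp hi, zero_mul]), ← Finset.add_sum_erase _ _ ha,
      e1 a ha, if_pos rfl, Finset.sum_congr rfl (fun i hi => (e1 i (Finset.mem_of_mem_erase hi)).trans
        (if_neg (Finset.ne_of_mem_erase hi))), Finset.sum_const, Finset.card_erase_of_mem ha, hSc]
    norm_num
    linear_combination -e3
  set x := R u v with hxdef
  have hxv : ∀ i, x i = v i - 2 * u i := fun i => by
    rw [hxdef, R_unit hu.1, hdot, mul_one, Pi.sub_apply, Pi.smul_apply, smul_eq_mul]
  have hlt : (supp x).card < (supp v).card := by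
    have hsub : supp x ⊆ supp v \ S.erase a := fun i hi => by
      rw [mem_supp, hxv, hudef] at hi
      dsimp only at hi
      rw [Finset.mem_sdiff, mem_supp, Finset.mem_erase]
      refine ⟨fun h0 => hi ?_, fun hiS => hi ?_⟩
      · rw [h0]; split_ifs <;> ring
      · rw [if_neg hiS.1, if_pos hiS.2]; linear_combination v i * e3
    refine lt_of_le_of_lt (Finset.card_le_card hsub) ?_
    rw [Finset.card_sdiff_of_subset ((Finset.erase_subset _ _).trans hS),
      Finset.card_erase_of_mem ha]
    omega
  have hxY := ih _ hlt (v := x) (by rw [hxdef, R_iso, hv]) rfl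
  have := h.inY_R hxY hu
  rwa [hxdef, ← LinearEquiv.mul_apply, R_mul_self] at this

/-- **Engine**: an element outside the monomial group pairs every unit vector. -/
theorem all_units {g : (Fin n → F) ≃ₗ[F] (Fin n → F)} (hg : g ∈ L) (hgm : ¬ IsMono g)
    {v : Fin n → F} (hv : v ⬝ᵥ v = 1) : InY L v := by
  classical
  have hn := h.dim
  have hnA : ¬ AxisRigid L := fun hA => hgm (h.all_mono hA hg)
  obtain ⟨g, hg, ⟨i, j, c, hij⟩, hgm⟩ : ∃ g ∈ L, (∃ (i j : Fin n) (c : F), g (e i) = c • e j) ∧
      ¬ IsMono g := by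
    unfold AxisRigid at hnA
    push Not at hnA
    exact hnA
  -- an element fixing an axis up to sign carries paired vectors to paired vectors
  have hY : ∀ q ∈ L, ∀ (i j : Fin n) (c : F), q (e i) = c • e j → ∀ k, k ≠ i →
      InY L (q (e k)) ∧ q (e k) j = 0 := by
    intro q hq i j c hc k hk
    have hqI := h.iso q hq
    have hcc := mono_pair hqI hc
    have hc0 : c ≠ 0 := fun h0 => by rw [h0, zero_mul] at hcc; exact zero_ne_one hcc
    have hi : InY L (q (e i)) := by
      rw [hc]
      refine h.inY_of_sq (h.inY_e j) fun l => ?_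
      rw [Pi.smul_apply, smul_eq_mul]
      linear_combination (e (F := F) j l * e j l) * hcc
    refine ⟨h.inY_map hq hi (h.inY_e k), ?_⟩
    have h0 : q (e i) ⬝ᵥ q (e k) = 0 := by rw [hqI, e_dot_ne (Ne.symm hk)]
    rw [hc, smul_dotProduct, e_dot, smul_eq_mul] at h0
    exact (mul_eq_zero.mp h0).resolve_left hc0
  -- the input vector
  obtain ⟨y, d, hy, hd, hy1, hy2⟩ : ∃ (y : Fin n → F) (d : Fin n), InY L y ∧ y d = 0 ∧
      ¬ IsAxis y ∧ ¬ IsDiag y := by
    by_cases hex : ∃ k, ¬ IsAxis (g (e k)) ∧ ¬ IsDiag (g (e k))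
    · obtain ⟨k, hk1, hk2⟩ := hex
      have hki : k ≠ i := fun e1 => hk1 ⟨j, c, by rw [e1, hij]⟩
      obtain ⟨h1, h4⟩ := hY g hg i j c hij k hki
      exact ⟨_, j, h1, h4, hk1, hk2⟩
    push Not at hex
    have hshape : ∀ k, IsAxis (g (e k)) ∨ IsDiag (g (e k)) := fun k =>
      or_iff_not_imp_left.mpr (hex k)
    obtain ⟨k₁, hk₁⟩ : ∃ k, IsDiag (g (e k)) := by
      by_contra hcon
      push Not at hcon
      exact hgm fun k => (hshape k).resolve_right (hcon k)
    obtain ⟨q, hq, ⟨l, hl⟩, k, i₁, i₂, i₃, h12, h13, h23, n1, n2, n3⟩ :=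
      h.exists_fix_wide hg Finset.univ
        (by rw [Finset.card_univ, Fintype.card_fin]; omega) (fun k _ => hshape k)
        (fun _ _ l hl => absurd (Finset.mem_univ l) hl) (Finset.mem_univ k₁) hk₁
    have hax : ¬ IsAxis (q (e k)) := fun ⟨m, s, hm⟩ => h12 (by
      rw [hm] at n1 n2
      exact (by_contra fun hne => n1 (by rw [Pi.smul_apply, e_ne hne, smul_zero]) : i₁ = m).trans
        (by_contra fun hne => n2 (by rw [Pi.smul_apply, e_ne hne, smul_zero]) : i₂ = m).symm)
    have hkl : k ≠ l := fun e1 => hax ⟨l, 1, by rw [e1, hl, one_smul]⟩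
    obtain ⟨h1, h4⟩ := hY q hq l l 1 (by rw [hl, one_smul]) k hkl
    refine ⟨_, l, h1, h4, hax, fun ⟨a, b, _, _, _, _, hz⟩ => ?_⟩
    have hm : ∀ m, q (e k) m ≠ 0 → m = a ∨ m = b := fun m hm => by
      by_contra hcon; push Not at hcon; exact hm (hz m hcon.1 hcon.2)
    rcases hm i₁ n1 with e1 | e1 <;> rcases hm i₂ n2 with e2 | e2 <;>
      rcases hm i₃ n3 with e4 | e4 <;>
      first
      | exact h12 (e1.trans e2.symm)
      | exact h13 (e1.trans e4.symm)
      | exact h23 (e2.trans e4.symm)
  -- its support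
  have hcard : 2 ≤ (supp y).card := by
    by_contra hlt
    rcases (show (supp y).card = 0 ∨ (supp y).card = 1 by omega) with hc | hc
    · have := sum_supp y
      rw [Finset.card_eq_zero.mp hc, Finset.sum_empty, hy.1] at this
      exact zero_ne_one this
    · obtain ⟨a, ha⟩ := Finset.card_eq_one.mp hc
      refine hy1 ⟨a, y a, funext fun l => ?_⟩
      by_cases hla : l = a
      · subst hla; rw [Pi.smul_apply, e_same, smul_eq_mul, mul_one]
      · rw [Pi.smul_apply, e_ne hla, smul_zero, not_mem_supp.mp (show l ∉ supp y by rw [ha]; simpa using hla)]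
  obtain ⟨a, haS, b, hbS, hab⟩ := Finset.one_lt_card.mp (show 1 < (supp y).card by omega)
  have ha := mem_supp.mp haS
  have hb := mem_supp.mp hbS
  have hr : y a * y a ≠ y b * y b ∨ ∃ c, c ≠ a ∧ c ≠ b ∧ y c ≠ 0 := by
    by_contra hcon
    push Not at hcon
    exact hy2 ⟨a, b, hab, hy.1, hcon.1, ha, hcon.2⟩
  have hpp : p.Prime := Fact.out
  rcases Nat.lt_or_ge p 11 with hlt | hge
  swap
  · exact h.units_of_plane hF hp2 hge (h.plane_of_rough hF hp2 hge hy hab hd ha hb hr) hv
  have hp357 : p = 3 ∨ p = 5 ∨ p = 7 := by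
    interval_cases p <;> first | omega | (exfalso; norm_num at hpp)
  have h3c : p = 5 ∨ p = 7 → 3 ≤ (supp y).card := by
    intro hp
    by_contra hlt
    have hS : ∀ i, y i ≠ 0 → i = a ∨ i = b := fun i hi => by
      have hsub : ({a, b} : Finset (Fin n)) ⊆ supp y := by
        simp [Finset.insert_subset_iff, haS, hbS]
      have he := Finset.eq_of_subset_of_card_le hsub (by rw [Finset.card_pair hab]; omega)
      have := mem_supp.mpr hi
      rw [← he] at this
      simpa using this
    have hsum : y a * y a + y b * y b = 1 := by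
      rw [← dot_two hab (fun i hia hib => by_contra fun hi => (hS i hi).elim hia hib), hy.1]
    rcases hr with hr | ⟨c, hca, hcb, hc⟩
    swap
    · exact (hS c hc).elim hca hcb
    rcases hp with hp | hp <;> subst hp
    · have e5 : (5 : F) = 0 := by
        have := FiniteField.cast_card_eq_zero F
        rw [hF] at this; exact_mod_cast this
      have q5 : ∀ i, y i ≠ 0 → y i * y i * (y i * y i) = 1 := fun i hi => by
        have h' := FiniteField.pow_card_sub_one_eq_one (y i) hi
        rw [hF] at h'
        rw [← h']; ring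
      -- equal squares, since `x² = 1` for both and they differ
      have : (y a * y a - y b * y b) * (y a * y a + y b * y b) = 0 := by
        linear_combination q5 a ha - q5 b hb
      rw [hsum, mul_one, sub_eq_zero] at this
      exact hr this
    · have e7 : (7 : F) = 0 := by
        have := FiniteField.cast_card_eq_zero F
        rw [hF] at this; exact_mod_cast this
      have q7 : ∀ i, y i ≠ 0 → y i * y i * (y i * y i) * (y i * y i) = 1 := fun i hi => by
        have h' := FiniteField.pow_card_sub_one_eq_one (y i) hi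
        rw [hF] at h'
        rw [← h']; ring
      set A := y a * y a with hA
      set B := y b * y b with hB
      have h1 : (A - B) * (A * A + A * B + B * B) = 0 := by
        linear_combination q7 a ha - q7 b hb
      have h5 : A * A + A * B + B * B = 0 := (mul_eq_zero.mp h1).resolve_left (sub_ne_zero.mpr hr)
      have hA1 : A * A - A + 1 = 0 := by linear_combination h5 - (B + 1) * hsum
      exact one_ne_zero (α := F) (show (1 : F) = 0 by
        have hh := q7 a ha
        rw [← hA] at hh
        exact (mul_eq_zero.mp (show (2 : F) * 1 = 0 by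
          linear_combination -hh + (A + 1) * hA1)).resolve_left h.two)
  rcases hp357 with hp | hp | hp
  · exact h.units_three hF hp hy hcard hv
  · exact h.units_five hF hp2 hp hy hd (h3c (Or.inl hp)) hv
  · exact h.units_seven hF hp2 hp hy hd (h3c (Or.inr hp)) hv

end Ctx

end Cfsg.Agent.K41.Mono
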