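import Cfsg.Agent.Lib.K41.Mono.Fusion
import Cfsg.Agent.Lib.K41.Mono.Psl

/-!
Three-dimensional non-degenerate subspaces: maps keeping `InY`, seen in `SL(2, F)`.
-/

set_option autoImplicit false

namespace Cfsg.Agent.K41.Mono

open Matrix

variable {F : Type*} [Field F] {n : ℕ}

/-- `g` keeps the set of paired unit vectors, in both directions. -/
def YKeep (L : Subgroup ((Fin n → F) ≃ₗ[F] (Fin n → F))) (g : (Fin n → F) ≃ₗ[F] (Fin n → F)) :
    Prop := ∀ v, InY L (g v) ↔ InY L v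

theorem YKeep.mul {L : Subgroup ((Fin n → F) ≃ₗ[F] (Fin n → F))}
    {g g' : (Fin n → F) ≃ₗ[F] (Fin n → F)} (hg : YKeep L g) (hg' : YKeep L g') :
    YKeep L (g * g') := fun v => (hg _).trans (hg' v)

theorem YKeep.inv {L : Subgroup ((Fin n → F) ≃ₗ[F] (Fin n → F))}
    {g : (Fin n → F) ≃ₗ[F] (Fin n → F)} (hg : YKeep L g) : YKeep L g⁻¹ := fun v => by
  conv_rhs => rw [← (show g (g⁻¹ v) = v from LinearEquiv.apply_symm_apply g v)]
  exact (hg _).symm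

theorem Ctx.keep_R {L : Subgroup ((Fin n → F) ≃ₗ[F] (Fin n → F))} (h : Ctx L) {w : Fin n → F}
    (hw : InY L w) : YKeep L (R w) := fun v => by
  refine ⟨fun hv => ?_, fun hv => h.inY_R hv hw⟩
  have := h.inY_R hv hw
  rwa [← LinearEquiv.mul_apply, R_mul_self, LinearEquiv.coe_one, id_eq] at this

/-- In a finite field of odd order, `α² - kβ²` represents everything. -/
theorem exists_norm [Fintype F] (h2 : (2 : F) ≠ 0) {k : F} (hk : k ≠ 0) (c : F) :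
    ∃ α β : F, α * α - k * (β * β) = c := by
  classical
  have hodd : Fintype.card F % 2 = 1 :=
    FiniteField.odd_card_of_char_ne_two (fun hc => h2 (by
      haveI := ringChar.of_eq hc
      exact CharP.cast_eq_zero F 2))
  obtain ⟨a, b, hab⟩ := FiniteField.exists_root_sum_quadratic
    (f := Polynomial.X ^ 2 - Polynomial.C c) (g := Polynomial.C (-k) * Polynomial.X ^ 2)
    (Polynomial.degree_X_pow_sub_C two_pos c)
    (Polynomial.degree_C_mul_X_pow 2 (neg_ne_zero.mpr hk)) hodd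
  simp only [Polynomial.eval_sub, Polynomial.eval_pow, Polynomial.eval_X, Polynomial.eval_C,
    Polynomial.eval_mul] at hab
  exact ⟨a, b, by linear_combination hab⟩

local notation "M2" => Matrix (Fin 2) (Fin 2) F
local notation "SL2" => Matrix.SpecialLinearGroup (Fin 2) F
local notation "PSL2" => Matrix.ProjectiveSpecialLinearGroup (Fin 2) F

namespace Model

/-- The bilinear form of norms `1, 1, ρ`. -/
def q (ρ : F) (x y : F × F × F) : F := x.1 * y.1 + x.2.1 * y.2.1 + ρ * (x.2.2 * y.2.2)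

/-- The model of that space inside the trace zero matrices. -/
def Phi (μ β₁ β₂ : F) (x : F × F × F) : M2 :=
  !![x.2.1 * β₁ - x.2.2 * μ * β₂, x.1 + x.2.1 * β₂ - x.2.2 * β₁;
     μ * (x.1 - x.2.1 * β₂ + x.2.2 * β₁), -(x.2.1 * β₁ - x.2.2 * μ * β₂)]

/-- The inverse of `Phi`. -/
def coord (μ β₁ β₂ : F) (X : M2) : F × F × F :=
  ((X 0 1 + X 1 0 / μ) / 2,
    (X 0 0 * β₁ - (X 0 1 - X 1 0 / μ) / 2 * μ * β₂) / μ,
    (X 0 0 * β₂ - (X 0 1 - X 1 0 / μ) / 2 * β₁) / μ)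

/-- The reflection in a unit vector, in coordinates. -/
def r (ρ : F) (u x : F × F × F) : F × F × F := x - (2 * q ρ u x) • u

variable {μ β₁ β₂ : F}

theorem Phi_tr (x : F × F × F) : trace (Phi μ β₁ β₂ x) = 0 := by
  simp [Phi, Matrix.trace_fin_two]

theorem Phi_one_one (x : F × F × F) : Phi μ β₁ β₂ x 1 1 = -Phi μ β₁ β₂ x 0 0 := by
  simp [Phi]

theorem Phi_sub (x y : F × F × F) : Phi μ β₁ β₂ (x - y) = Phi μ β₁ β₂ x - Phi μ β₁ β₂ y := by
  ext i j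
  fin_cases i <;> fin_cases j <;> simp [Phi] <;> ring

theorem Phi_smul (c : F) (x : F × F × F) : Phi μ β₁ β₂ (c • x) = c • Phi μ β₁ β₂ x := by
  ext i j
  fin_cases i <;> fin_cases j <;> simp [Phi] <;> ring

theorem coord_Phi (h2 : (2 : F) ≠ 0) (hμ : μ ≠ 0) (hβ : β₁ * β₁ - μ * (β₂ * β₂) = μ)
    (x : F × F × F) : coord μ β₁ β₂ (Phi μ β₁ β₂ x) = x := by
  obtain ⟨a, b, c⟩ := x
  refine Prod.ext ?_ (Prod.ext ?_ ?_) <;> simp [coord, Phi] <;> field_simp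
  · ring
  · linear_combination 2 * b * hβ
  · linear_combination 2 * c * hβ

theorem Phi_coord (h2 : (2 : F) ≠ 0) (hμ : μ ≠ 0) (hβ : β₁ * β₁ - μ * (β₂ * β₂) = μ) {X : M2}
    (hX : trace X = 0) : Phi μ β₁ β₂ (coord μ β₁ β₂ X) = X := by
  have h11 : X 1 1 = -X 0 0 := by
    rw [Matrix.trace_fin_two] at hX; linear_combination hX
  ext i j
  fin_cases i <;> fin_cases j <;> simp [coord, Phi, h11] <;> field_simp
  · linear_combination 2 * X 0 0 * hβ
  · linear_combination (μ * X 0 1 - X 1 0) * hβ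
  · linear_combination (X 1 0 - μ * X 0 1) * hβ
  · linear_combination -2 * X 0 0 * hβ

theorem anti (hβ : β₁ * β₁ - μ * (β₂ * β₂) = μ) {ρ : F} (hρ : μ = -ρ) (x y : F × F × F) :
    Phi μ β₁ β₂ x * Phi μ β₁ β₂ y + Phi μ β₁ β₂ y * Phi μ β₁ β₂ x =
      (2 * μ * q ρ x y) • (1 : M2) := by
  have hρ' : ρ = -μ := by linear_combination hρ
  subst hρ'
  ext i j
  fin_cases i <;> fin_cases j <;> simp [Phi, q, Matrix.mul_apply, Fin.sum_univ_two]
  · linear_combination (2 * x.2.1 * y.2.1 - 2 * μ * x.2.2 * y.2.2) * hβ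
  · ring
  · ring
  · linear_combination (2 * x.2.1 * y.2.1 - 2 * μ * x.2.2 * y.2.2) * hβ

theorem det_Phi (hβ : β₁ * β₁ - μ * (β₂ * β₂) = μ) {ρ : F} (hρ : μ = -ρ) (x : F × F × F) :
    (Phi μ β₁ β₂ x).det = -(μ * q ρ x x) := by
  have hρ' : ρ = -μ := by linear_combination hρ
  subst hρ'
  simp [Phi, q, Matrix.det_fin_two]
  linear_combination -(x.2.1 * x.2.1 - μ * (x.2.2 * x.2.2)) * hβ

/-- Four trace zero matrices. -/
theorem trace_four {A B C D : M2} (hA : A 1 1 = -A 0 0) (hB : B 1 1 = -B 0 0)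
    (hC : C 1 1 = -C 0 0) (hD : D 1 1 = -D 0 0) :
    2 * trace (A * B * (C * D)) = trace (A * B) * trace (C * D) - trace (A * C) * trace (B * D) +
      trace (A * D) * trace (B * C) := by
  simp only [Matrix.trace_fin_two, Matrix.mul_apply, Fin.sum_univ_two, hA, hB, hC, hD]
  ring

/-- A non-zero trace zero matrix is conjugate to a companion matrix. -/
theorem exists_cyclic (h2 : (2 : F) ≠ 0) {X : M2} {k : F} (hk : k ≠ 0) (h11 : X 1 1 = -X 0 0)
    (hX : X * X = k • 1) : ∃ P : M2, P.det ≠ 0 ∧ X * P = P * !![0, k; 1, 0] := by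
  have h00 : X 0 0 * X 0 0 + X 0 1 * X 1 0 = k := by
    have := congrFun (congrFun hX 0) 0
    simpa [Matrix.mul_apply, Fin.sum_univ_two] using this
  obtain ⟨a, b, hab⟩ : ∃ a b : F, X 1 0 * (a * a) - 2 * X 0 0 * (a * b) - X 0 1 * (b * b) ≠ 0 := by
    by_cases h1 : X 1 0 = 0
    · by_cases h3 : X 0 1 = 0
      · refine ⟨1, 1, ?_⟩
        intro h
        have : X 0 0 = 0 := (mul_eq_zero.mp (by linear_combination -h + h1 - h3 :
          2 * X 0 0 = 0)).resolve_left h2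
        exact hk (by rw [← h00, this, h1]; ring)
      · exact ⟨0, 1, by simpa using h3⟩
    · exact ⟨1, 0, by simpa using h1⟩
  refine ⟨!![a, X 0 0 * a + X 0 1 * b; b, X 1 0 * a + X 1 1 * b], ?_, ?_⟩
  · intro h
    rw [Matrix.det_fin_two, h11] at h
    simp at h
    exact hab (by linear_combination h)
  · ext i j
    fin_cases i <;> fin_cases j <;> simp [Matrix.mul_apply, Fin.sum_univ_two, h11]
    · linear_combination a * h00
    · linear_combination b * h00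

end Model

/-- Three orthogonal vectors of norms `1, 1, ρ`. -/
structure Frame (F : Type*) [Field F] (n : ℕ) where
  f₁ : Fin n → F
  f₂ : Fin n → F
  f₃ : Fin n → F
  ρ : F
  h₁ : f₁ ⬝ᵥ f₁ = 1
  h₂ : f₂ ⬝ᵥ f₂ = 1
  h₃ : f₃ ⬝ᵥ f₃ = ρ
  h₁₂ : f₁ ⬝ᵥ f₂ = 0
  h₁₃ : f₁ ⬝ᵥ f₃ = 0
  h₂₃ : f₂ ⬝ᵥ f₃ = 0
  ρ_ne : ρ ≠ 0

namespace Frame

variable (T : Frame F n)

/-- The embedding of the model. -/
def ι (x : F × F × F) : Fin n → F := x.1 • T.f₁ + x.2.1 • T.f₂ + x.2.2 • T.f₃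

/-- Orthogonal to the three vectors. -/
def Perp (w : Fin n → F) : Prop := T.f₁ ⬝ᵥ w = 0 ∧ T.f₂ ⬝ᵥ w = 0 ∧ T.f₃ ⬝ᵥ w = 0

theorem ι_dot (x y : F × F × F) : T.ι x ⬝ᵥ T.ι y = Model.q T.ρ x y := by
  simp only [ι, Model.q, add_dotProduct, dotProduct_add, smul_dotProduct, dotProduct_smul,
    T.h₁, T.h₂, T.h₃, T.h₁₂, T.h₁₃, T.h₂₃, dotProduct_comm T.f₂ T.f₁, dotProduct_comm T.f₃ T.f₁,
    dotProduct_comm T.f₃ T.f₂, smul_eq_mul]
  ring

theorem R_ι {u : F × F × F} (hu : Model.q T.ρ u u = 1) (x : F × F × F) :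
    R (T.ι u) (T.ι x) = T.ι (Model.r T.ρ u x) := by
  rw [R_unit (by rw [ι_dot, hu]), ι_dot]
  simp only [ι, Model.r, Prod.fst_sub, Prod.snd_sub, Prod.smul_fst, Prod.smul_snd, smul_eq_mul]
  module

theorem R_perp (u : F × F × F) {w : Fin n → F} (hw : T.Perp w) : R (T.ι u) w = w := by
  apply R_of_ortho
  simp [ι, add_dotProduct, smul_dotProduct, hw.1, hw.2.1, hw.2.2]

/-- Equal non-zero norms are exchanged by maps keeping `InY`. -/
def Transit (L : Subgroup ((Fin n → F) ≃ₗ[F] (Fin n → F))) : Prop :=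
  ∀ x x' : F × F × F, Model.q T.ρ x x ≠ 0 → Model.q T.ρ x x = Model.q T.ρ x' x' →
    ∃ g, YKeep L g ∧ (∀ w, T.Perp w → g w = w) ∧ g (T.ι x) = T.ι x'

theorem Transit.unit {T : Frame F n} {L : Subgroup ((Fin n → F) ≃ₗ[F] (Fin n → F))}
    (hT : T.Transit L) (hf : InY L T.f₁) {x : F × F × F} (hx : Model.q T.ρ x x = 1) :
    InY L (T.ι x) := by
  obtain ⟨g, hg, -, hgx⟩ := hT (1, 0, 0) x (by simp [Model.q]) (by rw [hx]; simp [Model.q])
  have h1 : T.ι ((1, 0, 0) : F × F × F) = T.f₁ := by simp [ι]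
  rw [← hgx, h1]
  exact (hg _).mpr hf

variable (L : Subgroup ((Fin n → F) ≃ₗ[F] (Fin n → F))) (β₁ β₂ : F)

/-- `s` is induced by a map keeping `InY` and fixing the orthogonal space. -/
def Acts (s : M2) : Prop :=
  ∃ g, YKeep L g ∧ (∀ w, T.Perp w → g w = w) ∧
    ∀ x x', Model.Phi (-T.ρ) β₁ β₂ x' * s = s * Model.Phi (-T.ρ) β₁ β₂ x → g (T.ι x) = T.ι x'

variable {β₁ β₂} (hβ : β₁ * β₁ - -T.ρ * (β₂ * β₂) = -T.ρ) {L} (h2 : (2 : F) ≠ 0)

include hβ h2 in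
/-- The group of induced elements. -/
theorem exists_acts_group : ∃ N : Subgroup SL2, ∀ s : SL2, s ∈ N ↔ T.Acts L β₁ β₂ (s : M2) := by
  have hμ : -T.ρ ≠ 0 := neg_ne_zero.mpr T.ρ_ne
  have hinj : ∀ x x', Model.Phi (-T.ρ) β₁ β₂ x = Model.Phi (-T.ρ) β₁ β₂ x' → x = x' :=
    fun x x' h => by rw [← Model.coord_Phi h2 hμ hβ x, h, Model.coord_Phi h2 hμ hβ]
  refine ⟨{ carrier := setOf fun s : SL2 => T.Acts L β₁ β₂ (s : M2)
            one_mem' := ?_
            mul_mem' := ?_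
            inv_mem' := ?_ }, fun s => Iff.rfl⟩
  · rintro a b ⟨g, hg, hgw, hgx⟩ ⟨g', hg', hgw', hgx'⟩
    refine ⟨g * g', hg.mul hg', fun w hw => by rw [LinearEquiv.mul_apply, hgw' w hw, hgw w hw],
      fun x x' hxx => ?_⟩
    set X := Model.Phi (-T.ρ) β₁ β₂ x with hX
    set x'' := Model.coord (-T.ρ) β₁ β₂ ((b : M2) * X * ((b⁻¹ : SL2) : M2)) with hx''
    have hinv : ((b⁻¹ : SL2) : M2) * (b : M2) = 1 := by
      rw [← Matrix.SpecialLinearGroup.coe_mul, inv_mul_cancel, Matrix.SpecialLinearGroup.coe_one]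
    have hx2 : Model.Phi (-T.ρ) β₁ β₂ x'' * (b : M2) = (b : M2) * X := by
      rw [hx'', Model.Phi_coord h2 hμ hβ, mul_assoc, hinv, mul_one]
      rw [Matrix.trace_mul_comm, ← mul_assoc, hinv, one_mul, hX, Model.Phi_tr]
    rw [LinearEquiv.mul_apply, hgx' x x'' hx2]
    refine hgx _ _ ?_
    have hb : (b : M2) * ((b⁻¹ : SL2) : M2) = 1 := by
      rw [← Matrix.SpecialLinearGroup.coe_mul, mul_inv_cancel, Matrix.SpecialLinearGroup.coe_one]
    rw [Matrix.SpecialLinearGroup.coe_mul, ← mul_assoc, mul_assoc _ _ X, ← hx2, ← mul_assoc] at hxx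
    calc _ = Model.Phi (-T.ρ) β₁ β₂ x' * (a : M2) * (b : M2) * ((b⁻¹ : SL2) : M2) := by
          rw [mul_assoc _ (b : M2), hb, mul_one]
      _ = (a : M2) * Model.Phi (-T.ρ) β₁ β₂ x'' * (b : M2) * ((b⁻¹ : SL2) : M2) := by rw [hxx]
      _ = _ := by rw [mul_assoc _ (b : M2), hb, mul_one]
  · refine ⟨1, fun _ => Iff.rfl, fun _ _ => rfl, fun x x' h => ?_⟩
    rw [Matrix.SpecialLinearGroup.coe_one, mul_one, one_mul] at h
    rw [hinj _ _ h]
    rfl
  · rintro a ⟨g, hg, hgw, hgx⟩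
    refine ⟨g⁻¹, hg.inv, fun w hw => ?_, fun x x' h => ?_⟩
    · show g.symm w = w
      rw [LinearEquiv.symm_apply_eq, hgw w hw]
    show g.symm (T.ι x) = T.ι x'
    rw [LinearEquiv.symm_apply_eq]
    refine (hgx x' x ?_).symm
    have hinv : ((a⁻¹ : SL2) : M2) * (a : M2) = 1 := by
      rw [← Matrix.SpecialLinearGroup.coe_mul, inv_mul_cancel, Matrix.SpecialLinearGroup.coe_one]
    have hb : (a : M2) * ((a⁻¹ : SL2) : M2) = 1 := by
      rw [← Matrix.SpecialLinearGroup.coe_mul, mul_inv_cancel, Matrix.SpecialLinearGroup.coe_one]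
    have h' := congrArg (fun X => (a : M2) * X * (a : M2)) h
    simp only [mul_assoc, hinv, mul_one] at h'
    simp only [← mul_assoc, hb, one_mul] at h'
    exact h'.symm

omit h2 in
theorem acts_neg {s : M2} {c : F} (hc : c ≠ 0) (hs : T.Acts L β₁ β₂ (c • s)) :
    T.Acts L β₁ β₂ s := by
  obtain ⟨g, hg, hgw, hgx⟩ := hs
  exact ⟨g, hg, hgw, fun x x' h => hgx x x' (by rw [Matrix.mul_smul, Matrix.smul_mul, h])⟩

include hβ h2 in
theorem acts_pair (hL : Ctx L) {u v : F × F × F} (hu : Model.q T.ρ u u = 1)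
    (hv : Model.q T.ρ v v = 1) (hu' : InY L (T.ι u)) (hv' : InY L (T.ι v)) :
    ∃ s : SL2, (s : M2) = (-T.ρ)⁻¹ • (Model.Phi (-T.ρ) β₁ β₂ u * Model.Phi (-T.ρ) β₁ β₂ v) ∧
      T.Acts L β₁ β₂ (s : M2) := by
  have hμ : -T.ρ ≠ 0 := neg_ne_zero.mpr T.ρ_ne
  have hdet : ((-T.ρ)⁻¹ • (Model.Phi (-T.ρ) β₁ β₂ u * Model.Phi (-T.ρ) β₁ β₂ v)).det = 1 := by
    rw [Matrix.det_smul, Matrix.det_mul, Model.det_Phi hβ rfl, Model.det_Phi hβ rfl, hu, hv,
      Fintype.card_fin]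
    field_simp
    exact div_self T.ρ_ne
  refine ⟨⟨_, hdet⟩, rfl, R (T.ι u) * R (T.ι v), (hL.keep_R hu').mul (hL.keep_R hv'),
    fun w hw => by rw [LinearEquiv.mul_apply, R_perp T v hw, R_perp T u hw], fun x x' h => ?_⟩
  have rule : ∀ w y, Model.q T.ρ w w = 1 →
      Model.Phi (-T.ρ) β₁ β₂ (Model.r T.ρ w y) * Model.Phi (-T.ρ) β₁ β₂ w =
        -(Model.Phi (-T.ρ) β₁ β₂ w * Model.Phi (-T.ρ) β₁ β₂ y) := fun w y hw => by
    have h1 := Model.anti hβ rfl w w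
    rw [hw, ← two_smul F, mul_one] at h1
    have h3 : Model.Phi (-T.ρ) β₁ β₂ w * Model.Phi (-T.ρ) β₁ β₂ w = (-T.ρ) • (1 : M2) :=
      smul_right_injective M2 h2 (by
        show (2 : F) • _ = (2 : F) • _
        rw [h1, smul_smul])
    rw [Model.r, Model.Phi_sub, Model.Phi_smul, Matrix.sub_mul, Matrix.smul_mul, h3, smul_smul,
      eq_neg_iff_add_eq_zero, sub_add_eq_add_sub, add_comm, Model.anti hβ rfl, sub_eq_zero]
    congr 1
    ring
  have hx : Model.Phi (-T.ρ) β₁ β₂ (Model.r T.ρ u (Model.r T.ρ v x)) *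
      ((-T.ρ)⁻¹ • (Model.Phi (-T.ρ) β₁ β₂ u * Model.Phi (-T.ρ) β₁ β₂ v)) =
      ((-T.ρ)⁻¹ • (Model.Phi (-T.ρ) β₁ β₂ u * Model.Phi (-T.ρ) β₁ β₂ v)) *
        Model.Phi (-T.ρ) β₁ β₂ x := by
    rw [Matrix.mul_smul, Matrix.smul_mul, ← mul_assoc, rule u _ hu, neg_mul, mul_assoc,
      rule v _ hv, mul_neg, neg_neg, mul_assoc]
  have hcancel : Model.Phi (-T.ρ) β₁ β₂ x' =
      Model.Phi (-T.ρ) β₁ β₂ (Model.r T.ρ u (Model.r T.ρ v x)) := by
    have hb := Matrix.mul_adjugate ((-T.ρ)⁻¹ • (Model.Phi (-T.ρ) β₁ β₂ u * Model.Phi (-T.ρ) β₁ β₂ v))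
    rw [hdet, one_smul] at hb
    have h5 := congrArg (· * Matrix.adjugate ((-T.ρ)⁻¹ •
      (Model.Phi (-T.ρ) β₁ β₂ u * Model.Phi (-T.ρ) β₁ β₂ v))) (h.trans hx.symm)
    simpa only [mul_assoc, hb, mul_one] using h5
  rw [← Model.coord_Phi h2 hμ hβ x', hcancel, Model.coord_Phi h2 hμ hβ, LinearEquiv.mul_apply,
    R_ι T hv, R_ι T hu]

include hβ h2 in
theorem trace_pair {u v : F × F × F} {s : M2}
    (hs : s = (-T.ρ)⁻¹ • (Model.Phi (-T.ρ) β₁ β₂ u * Model.Phi (-T.ρ) β₁ β₂ v)) :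
    trace s = 2 * Model.q T.ρ u v := by
  have h := congrArg trace (Model.anti hβ rfl u v)
  rw [Matrix.trace_add, Matrix.trace_mul_comm (Model.Phi (-T.ρ) β₁ β₂ v), ← two_mul,
    Matrix.trace_smul, Matrix.trace_one, Fintype.card_fin, smul_eq_mul] at h
  have hμ : -T.ρ ≠ 0 := neg_ne_zero.mpr T.ρ_ne
  rw [hs, Matrix.trace_smul, smul_eq_mul,
    mul_left_cancel₀ h2 (h.trans (by push_cast; ring :
      _ = 2 * (2 * -T.ρ * Model.q T.ρ u v)))]
  have := T.ρ_ne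
  field_simp

include hβ h2 in
theorem trace_pairs {u v w z : F × F × F} {s t : M2}
    (hs : s = (-T.ρ)⁻¹ • (Model.Phi (-T.ρ) β₁ β₂ u * Model.Phi (-T.ρ) β₁ β₂ v))
    (ht : t = (-T.ρ)⁻¹ • (Model.Phi (-T.ρ) β₁ β₂ w * Model.Phi (-T.ρ) β₁ β₂ z)) :
    trace (s * t) = 2 * (Model.q T.ρ u v * Model.q T.ρ w z - Model.q T.ρ u w * Model.q T.ρ v z +
      Model.q T.ρ u z * Model.q T.ρ v w) := by
  have hμ : -T.ρ ≠ 0 := neg_ne_zero.mpr T.ρ_ne
  have hp : ∀ a b, trace (Model.Phi (-T.ρ) β₁ β₂ a * Model.Phi (-T.ρ) β₁ β₂ b) =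
      -T.ρ * (2 * Model.q T.ρ a b) := fun a b => by
    have h := trace_pair T hβ h2 (u := a) (v := b) rfl
    rw [Matrix.trace_smul, smul_eq_mul] at h
    rw [← h, ← mul_assoc, mul_inv_cancel₀ hμ, one_mul]
  have h4 := Model.trace_four (Model.Phi_one_one (μ := -T.ρ) (β₁ := β₁) (β₂ := β₂) u)
    (Model.Phi_one_one (μ := -T.ρ) (β₁ := β₁) (β₂ := β₂) v)
    (Model.Phi_one_one (μ := -T.ρ) (β₁ := β₁) (β₂ := β₂) w)
    (Model.Phi_one_one (μ := -T.ρ) (β₁ := β₁) (β₂ := β₂) z)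
  rw [hp, hp, hp, hp, hp, hp] at h4
  apply mul_left_cancel₀ h2
  rw [hs, ht, Matrix.smul_mul, Matrix.mul_smul, smul_smul, Matrix.trace_smul, smul_eq_mul,
    mul_left_comm, h4]
  have := T.ρ_ne
  field_simp

variable [Fintype F] {p : ℕ} [Fact p.Prime] (hF : Fintype.card F = p) (hp2 : p ≠ 2)

include hβ h2 hF hp2 in
/-- Witnesses give transitivity. -/
theorem transit_of_witness {s t c d : SL2} (hs : T.Acts L β₁ β₂ (s : M2))
    (ht : T.Acts L β₁ β₂ (t : M2)) (hc : T.Acts L β₁ β₂ (c : M2))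
    (hd : T.Acts L β₁ β₂ (d : M2))
    (hst : trace ((s * t * s⁻¹ * t⁻¹ : SL2) : M2) ≠ 2)
    (hts : trace (t : M2) ≠ 0) (hss : trace (s : M2) ≠ 0) (hs2 : trace (s : M2) ^ 2 ≠ 2)
    (hbig : trace (s : M2) ^ 2 = 4 ∨ (trace (s : M2) ^ 2 ≠ 1 ∧
      trace (s : M2) ^ 4 - 3 * trace (s : M2) ^ 2 + 1 ≠ 0))
    (hcd : trace ((c * d * c⁻¹ * d⁻¹ : SL2) : M2) ≠ 2 ∧
      trace ((c * d * c⁻¹ * d⁻¹ : SL2) : M2) ≠ -2) : T.Transit L := by
  obtain ⟨N, hN⟩ := T.exists_acts_group hβ h2 (L := L)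
  have htop := Psl.eq_top_of_witness hF hp2 (N.map (QuotientGroup.mk' _))
    (Subgroup.mem_map_of_mem _ ((hN _).mpr hs)) (Subgroup.mem_map_of_mem _ ((hN _).mpr ht))
    (Subgroup.mem_map_of_mem _ ((hN _).mpr hc)) (Subgroup.mem_map_of_mem _ ((hN _).mpr hd))
    hst hts hss hs2 hbig hcd
  have hall : ∀ q : SL2, T.Acts L β₁ β₂ (q : M2) := fun q => by
    have hq : (q : PSL2) ∈ N.map (QuotientGroup.mk' _) := by rw [htop]; exact Subgroup.mem_top _
    obtain ⟨q', hq', hqq⟩ := Subgroup.mem_map.mp hq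
    obtain ⟨z, hz, hzq⟩ := (QuotientGroup.mk'_eq_mk' _).mp hqq
    obtain ⟨a, ha⟩ := (Cfsg.Agent.Lib.DicksonFull.mem_center_iff_smul z).mp hz
    have ha2 := Psl.scalar_sq ha
    have h := (hN _).mp hq'
    have e : (q' : M2) = a • (q : M2) := by
      rw [← hzq, Matrix.SpecialLinearGroup.coe_mul, ha, Matrix.mul_smul, mul_one, smul_smul,
        ← pow_two, ha2, one_smul]
    rw [e] at h
    exact T.acts_neg (fun h0 => by rw [h0] at ha2; simp at ha2) h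
  intro x x' hx hxx
  have hμ : -T.ρ ≠ 0 := neg_ne_zero.mpr T.ρ_ne
  set k := -T.ρ * Model.q T.ρ x x with hk
  have hk0 : k ≠ 0 := mul_ne_zero hμ hx
  have hsq : ∀ y, Model.q T.ρ y y = Model.q T.ρ x x →
      Model.Phi (-T.ρ) β₁ β₂ y * Model.Phi (-T.ρ) β₁ β₂ y = k • (1 : M2) := fun y hy => by
    have h1 := Model.anti hβ rfl y y
    rw [hy, ← two_smul F] at h1
    exact smul_right_injective M2 h2 (by
      show (2 : F) • _ = (2 : F) • _
      rw [h1, smul_smul, hk, mul_assoc])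
  obtain ⟨P, hP, hPX⟩ := Model.exists_cyclic h2 hk0 (Model.Phi_one_one x) (hsq x rfl)
  obtain ⟨P', hP', hPX'⟩ := Model.exists_cyclic h2 hk0 (Model.Phi_one_one x') (hsq x' hxx.symm)
  obtain ⟨α, β, hαβ⟩ := exists_norm h2 hk0 (P.det * P'.det)⁻¹
  set C : M2 := !![0, k; 1, 0] with hC
  set E : M2 := !![α, β * k; β, α] with hE
  have hEC : E * C = C * E := by
    ext i j
    fin_cases i <;> fin_cases j <;> simp [hE, hC, Matrix.mul_apply, Fin.sum_univ_two] <;> ring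
  have hadj : P.adjugate * Model.Phi (-T.ρ) β₁ β₂ x = C * P.adjugate := by
    have h1 : P.adjugate * (Model.Phi (-T.ρ) β₁ β₂ x * P) * P.adjugate =
        P.adjugate * (P * C) * P.adjugate := by rw [hPX]
    simp only [← mul_assoc] at h1
    rw [mul_assoc _ P, Matrix.mul_adjugate, Matrix.adjugate_mul, Matrix.mul_smul, mul_one,
      Matrix.smul_mul, one_mul, Matrix.smul_mul] at h1
    exact smul_right_injective M2 hP h1
  have hdet : (P' * E * P.adjugate).det = 1 := by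
    rw [Matrix.det_mul, Matrix.det_mul, Matrix.det_adjugate, Fintype.card_fin, pow_one,
      show E.det = (P.det * P'.det)⁻¹ by
        rw [← hαβ, hE, Matrix.det_fin_two]; simp; ring]
    field_simp
  obtain ⟨g, hg, hgw, hgx⟩ := hall ⟨_, hdet⟩
  refine ⟨g, hg, hgw, hgx x x' ?_⟩
  show _ * (P' * E * P.adjugate) = P' * E * P.adjugate * _
  rw [mul_assoc (P' * E), hadj, ← mul_assoc, ← mul_assoc, hPX', mul_assoc P', ← hEC]
  simp only [mul_assoc]

include h2 hF hp2 in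
/-- Three roots and a witness. -/
theorem transit_of_three (hL : Ctx L) {u v w u' v' w' : F × F × F}
    (hy : ∀ x ∈ [u, v, w, u', v', w'], Model.q T.ρ x x = 1 ∧ InY L (T.ι x))
    {a b c a' b' c' : F} (ha : Model.q T.ρ u v = a) (hb : Model.q T.ρ u w = b)
    (hc : Model.q T.ρ v w = c) (ha' : Model.q T.ρ u' v' = a') (hb' : Model.q T.ρ u' w' = b')
    (hc' : Model.q T.ρ v' w' = c')
    (hΔ : 1 + 2 * a * b * c - a * a - b * b - c * c ≠ 0) (hb0 : b ≠ 0)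
    (hgood : 4 * (a * a) = 4 ∨ (4 * (a * a) ≠ 0 ∧ 4 * (a * a) ≠ 1 ∧ 4 * (a * a) ≠ 2 ∧
      4 * (a * a) * (4 * (a * a)) - 3 * (4 * (a * a)) + 1 ≠ 0))
    (hΔ' : 1 + 2 * a' * b' * c' - a' * a' - b' * b' - c' * c' ≠ 0 ∧
      1 + 2 * a' * b' * c' - a' * a' - b' * b' - c' * c' ≠ 1) : T.Transit L := by
  obtain ⟨β₁, β₂, hβ⟩ := exists_norm h2 (neg_ne_zero.mpr T.ρ_ne) (-T.ρ)
  have h4 : (4 : F) ≠ 0 := by
    rw [show (4 : F) = 2 * 2 by norm_num]; exact mul_ne_zero h2 h2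
  obtain ⟨s, hs, hsA⟩ := T.acts_pair hβ h2 hL (hy u (by simp)).1 (hy v (by simp)).1
    (hy u (by simp)).2 (hy v (by simp)).2
  obtain ⟨t, ht, htA⟩ := T.acts_pair hβ h2 hL (hy u (by simp)).1 (hy w (by simp)).1
    (hy u (by simp)).2 (hy w (by simp)).2
  obtain ⟨s', hs', hsA'⟩ := T.acts_pair hβ h2 hL (hy u' (by simp)).1 (hy v' (by simp)).1
    (hy u' (by simp)).2 (hy v' (by simp)).2
  obtain ⟨t', ht', htA'⟩ := T.acts_pair hβ h2 hL (hy u' (by simp)).1 (hy w' (by simp)).1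
    (hy u' (by simp)).2 (hy w' (by simp)).2
  have key : trace ((s * t * s⁻¹ * t⁻¹ : SL2) : M2) =
      2 - 4 * (1 + 2 * a * b * c - a * a - b * b - c * c) := by
    rw [Psl.trace_commutator, Matrix.SpecialLinearGroup.coe_mul, T.trace_pair hβ h2 hs,
      T.trace_pair hβ h2 ht, T.trace_pairs hβ h2 hs ht, ha, hb, (hy u (by simp)).1,
      show Model.q T.ρ v u = a by rw [← ha]; simp only [Model.q]; ring, hc]
    ring
  have key' : trace ((s' * t' * s'⁻¹ * t'⁻¹ : SL2) : M2) =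
      2 - 4 * (1 + 2 * a' * b' * c' - a' * a' - b' * b' - c' * c') := by
    rw [Psl.trace_commutator, Matrix.SpecialLinearGroup.coe_mul, T.trace_pair hβ h2 hs',
      T.trace_pair hβ h2 ht', T.trace_pairs hβ h2 hs' ht', ha', hb', (hy u' (by simp)).1,
      show Model.q T.ρ v' u' = a' by rw [← ha']; simp only [Model.q]; ring, hc']
    ring
  have hsq : trace (s : M2) ^ 2 = 4 * (a * a) := by
    rw [T.trace_pair hβ h2 hs, ha]; ring
  have hg0 : 4 * (a * a) ≠ 0 ∧ 4 * (a * a) ≠ 2 := by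
    rcases hgood with h | ⟨h, -, h', -⟩
    · rw [h]; exact ⟨h4, fun h' => h2 (by linear_combination h')⟩
    · exact ⟨h, h'⟩
  refine T.transit_of_witness hβ h2 hF hp2 hsA htA hsA' htA' ?_ ?_ ?_ ?_ ?_ ⟨?_, ?_⟩
  · rw [key]
    exact fun h => hΔ ((mul_eq_zero.mp (by linear_combination -h :
      4 * (1 + 2 * a * b * c - a * a - b * b - c * c) = 0)).resolve_left h4)
  · rw [T.trace_pair hβ h2 ht, hb]; exact mul_ne_zero h2 hb0
  · intro h; exact hg0.1 (by rw [← hsq, h]; ring)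
  · rw [hsq]; exact hg0.2
  · rcases hgood with h | ⟨-, h, -, h'⟩
    · exact Or.inl (hsq.trans h)
    · refine Or.inr ⟨by rw [hsq]; exact h, ?_⟩
      rw [show trace (s : M2) ^ 4 = (trace (s : M2) ^ 2) * (trace (s : M2) ^ 2) by ring, hsq]
      exact h'
  · rw [key']
    exact fun h => hΔ'.1 ((mul_eq_zero.mp (by linear_combination -h :
      4 * (1 + 2 * a' * b' * c' - a' * a' - b' * b' - c' * c') = 0)).resolve_left h4)
  · rw [key']
    exact fun h => hΔ'.2 (sub_eq_zero.mp ((mul_eq_zero.mp (by linear_combination -h :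
      4 * (1 + 2 * a' * b' * c' - a' * a' - b' * b' - c' * c' - 1) = 0)).resolve_left h4))

include h2 hF hp2 in
/-- Four roots: a product of two pairs may serve as the large element. -/
theorem transit_of_four (hL : Ctx L) {u v w z : F × F × F}
    (hy : ∀ x ∈ [u, v, w, z], Model.q T.ρ x x = 1 ∧ InY L (T.ι x))
    {x xt xr : F} (hxt : 2 * Model.q T.ρ u v = xt) (hxr : 2 * Model.q T.ρ w z = xr)
    (hx : 2 * (Model.q T.ρ u v * Model.q T.ρ w z - Model.q T.ρ u w * Model.q T.ρ v z +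
      Model.q T.ρ u z * Model.q T.ρ v w) = x)
    (hxt0 : xt ≠ 0) (hx4 : x * x = 4)
    (hκ : xr * xr + xt * xt + x * x - xr * xt * x ≠ 4 ∧
      xr * xr + xt * xt + x * x - xr * xt * x ≠ 0) : T.Transit L := by
  obtain ⟨β₁, β₂, hβ⟩ := exists_norm h2 (neg_ne_zero.mpr T.ρ_ne) (-T.ρ)
  obtain ⟨t, ht, htA⟩ := T.acts_pair hβ h2 hL (hy u (by simp)).1 (hy v (by simp)).1
    (hy u (by simp)).2 (hy v (by simp)).2
  obtain ⟨r, hr, hrA⟩ := T.acts_pair hβ h2 hL (hy w (by simp)).1 (hy z (by simp)).1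
    (hy w (by simp)).2 (hy z (by simp)).2
  obtain ⟨N, hN⟩ := T.exists_acts_group hβ h2 (L := L)
  have hsA : T.Acts L β₁ β₂ ((t * r : SL2) : M2) :=
    (hN _).mp (N.mul_mem ((hN _).mpr htA) ((hN _).mpr hrA))
  have htr : trace ((t * r : SL2) : M2) = x := by
    rw [Matrix.SpecialLinearGroup.coe_mul, T.trace_pairs hβ h2 ht hr, hx]
  have key : trace ((r * t * r⁻¹ * t⁻¹ : SL2) : M2) =
      xr * xr + xt * xt + x * x - xr * xt * x - 2 := by
    rw [Psl.trace_commutator, Matrix.SpecialLinearGroup.coe_mul, Matrix.trace_mul_comm,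
      ← Matrix.SpecialLinearGroup.coe_mul, htr, T.trace_pair hβ h2 ht, T.trace_pair hβ h2 hr,
      hxt, hxr]
    ring
  refine T.transit_of_witness hβ h2 hF hp2 hsA htA hrA htA ?_ ?_ ?_ ?_ ?_ ⟨?_, ?_⟩
  · rw [show t * r * t * (t * r)⁻¹ * t⁻¹ = t * (r * t * r⁻¹ * t⁻¹) * t⁻¹ by group,
      Matrix.SpecialLinearGroup.coe_mul, Matrix.trace_mul_comm,
      ← Matrix.SpecialLinearGroup.coe_mul, inv_mul_cancel_left, key]
    exact fun h => hκ.1 (by linear_combination h)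
  · rw [T.trace_pair hβ h2 ht, hxt]; exact hxt0
  · rw [htr]; intro h
    rw [h] at hx4
    exact mul_ne_zero h2 h2 (by linear_combination -hx4)
  · rw [htr]; exact fun h => h2 (by linear_combination h - hx4)
  · exact Or.inl (by rw [htr]; linear_combination hx4)
  · rw [key]; exact fun h => hκ.1 (by linear_combination h)
  · rw [key]; exact fun h => hκ.2 (by linear_combination h)

end Frame

end Cfsg.Agent.K41.Mono
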